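import Groth.Agent.CurveCoh.Finite
import Groth.Agent.ModShf.ToSheaf
import Groth.Agent.QCoh.Exact
import Mathlib.Algebra.Homology.DerivedCategory.Ext.ExtClass
import Mathlib.Algebra.Homology.DerivedCategory.Ext.ExactSequences
import Mathlib.LinearAlgebra.FiniteDimensional.Lemmas
import Mathlib.Tactic.Linarith

/-!
# Additivity of the Euler characteristic on a proper normal curve
-/

universe u

open CategoryTheory AlgebraicGeometry Limits Abelian

set_option linter.style.haveILetI false

namespace Groth.Agent.CurveCoh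

variable (k : Type u) [Field k] {X : Scheme.{u}} [X.Over (Spec (CommRingCat.of k))]

/-- The underlying abelian sheaf, as a functor. -/
noncomputable abbrev toAbF (X : Scheme.{u}) :
    X.Modules ⥤ Sheaf (Opens.grothendieckTopology X) AddCommGrpCat.{u} :=
  SheafOfModules.toSheaf X.ringCatSheaf

instance preservesFiniteLimits_toAbF (X : Scheme.{u}) : PreservesFiniteLimits (toAbF X) :=
  ModShf.toSheafPreservesFiniteLimits X.ringCatSheaf

instance preservesFiniteColimits_toAbF (X : Scheme.{u}) : PreservesFiniteColimits (toAbF X) :=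
  ModShf.toSheafPreservesFiniteColimits X.ringCatSheaf

instance additive_toAbF (X : Scheme.{u}) : (toAbF X).Additive :=
  Functor.additive_of_preserves_binary_products _

/-- The constant sheaf whose extension groups are the cohomology groups. -/
noncomputable abbrev ZZ (X : Scheme.{u}) : Sheaf (Opens.grothendieckTopology X) AddCommGrpCat.{u} :=
  (constantSheaf (Opens.grothendieckTopology X) AddCommGrpCat.{u}).obj (AddCommGrpCat.of (ULift ℤ))

lemma smul_HH (M : X.Modules) (n : ℕ) (c : k) (y : Coh.HH X M n) :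
    c • y = Sheaf.H.map (Coh.smulAb M (Coh.toGlobal (X ↘ Spec (CommRingCat.of k)) c)) n y := rfl

lemma smulAb_comm {F G : X.Modules} (f : F ⟶ G) (r : Coh.Γtop X) :
    Coh.smulAb F r ≫ (toAbF X).map f = (toAbF X).map f ≫ Coh.smulAb G r := by
  ext U m
  exact (f.val.app U).hom.map_smul _ m

/-- The map on cohomology induced by a map of modules, linear over the base field. -/
noncomputable def mapL {F G : X.Modules} (f : F ⟶ G) (n : ℕ) :
    Coh.HH X F n →ₗ[k] Coh.HH X G n where
  toFun := Sheaf.H.map ((toAbF X).map f) n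
  map_add' := map_add _
  map_smul' c y := by
    rw [RingHom.id_apply, smul_HH, smul_HH, ← Sheaf.H.map_comp_apply, ← Sheaf.H.map_comp_apply,
      smulAb_comm]

variable {S : ShortComplex X.Modules} (hS : S.ShortExact)

include hS in
lemma shortExact_toAb : (S.map (toAbF X)).ShortExact :=
  hS.map_of_exact _

/-- The connecting map. -/
noncomputable def delta (n₀ n₁ : ℕ) (h : n₀ + 1 = n₁) (x : Coh.HH X S.X₃ n₀) : Coh.HH X S.X₁ n₁ :=
  Ext.comp (X := ZZ X) (Y := (S.map (toAbF X)).X₃) x (shortExact_toAb hS).extClass h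

lemma delta_smulAb (n₀ n₁ : ℕ) (h : n₀ + 1 = n₁) (r : Coh.Γtop X) (x : Coh.HH X S.X₃ n₀) :
    delta hS n₀ n₁ h (Sheaf.H.map (Coh.smulAb S.X₃ r) n₀ x) =
      Sheaf.H.map (Coh.smulAb S.X₁ r) n₁ (delta hS n₀ n₁ h x) := by
  let φ : S.map (toAbF X) ⟶ S.map (toAbF X) :=
    { τ₁ := Coh.smulAb S.X₁ r
      τ₂ := Coh.smulAb S.X₂ r
      τ₃ := Coh.smulAb S.X₃ r
      comm₁₂ := smulAb_comm S.f r
      comm₂₃ := smulAb_comm S.g r }
  have hS' : (S.map (toAbF X)).ShortExact := shortExact_toAb hS
  have key := ShortComplex.ShortExact.extClass_naturality hS' hS' φ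
  exact ((Ext.comp_assoc_of_second_deg_zero x (Ext.mk₀ φ.τ₃) (shortExact_toAb hS).extClass h).trans
    (congrArg (fun e => Ext.comp x e h) key.symm)).trans
    (Ext.comp_assoc_of_third_deg_zero x (shortExact_toAb hS).extClass (Ext.mk₀ φ.τ₁) h).symm

/-- The connecting map, linear over the base field. -/
noncomputable def deltaL (n₀ n₁ : ℕ) (h : n₀ + 1 = n₁) :
    Coh.HH X S.X₃ n₀ →ₗ[k] Coh.HH X S.X₁ n₁ where
  toFun := delta hS n₀ n₁ h
  map_add' x y := Ext.add_comp (X := ZZ X) (Y := (S.map (toAbF X)).X₃) x y _ _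
  map_smul' c x := by
    rw [RingHom.id_apply, smul_HH, smul_HH, delta_smulAb]

include hS in
lemma exact_mapL (n : ℕ) : Function.Exact (mapL k S.f n) (mapL k S.g n) := by
  have hS' : (S.map (toAbF X)).ShortExact := shortExact_toAb hS
  exact (ShortComplex.ab_exact_iff_function_exact _).mp (Ext.covariant_sequence_exact₂' (ZZ X) hS' n)

include hS in
lemma exact_mapL_deltaL (n₀ n₁ : ℕ) (h : n₀ + 1 = n₁) :
    Function.Exact (mapL k S.g n₀) (deltaL k hS n₀ n₁ h) := by
  have hS' : (S.map (toAbF X)).ShortExact := shortExact_toAb hS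
  exact (ShortComplex.ab_exact_iff_function_exact _).mp (Ext.covariant_sequence_exact₃' (ZZ X) hS' n₀ n₁ h)

include hS in
lemma exact_deltaL_mapL (n₀ n₁ : ℕ) (h : n₀ + 1 = n₁) :
    Function.Exact (deltaL k hS n₀ n₁ h) (mapL k S.f n₁) := by
  have hS' : (S.map (toAbF X)).ShortExact := shortExact_toAb hS
  exact (ShortComplex.ab_exact_iff_function_exact _).mp (Ext.covariant_sequence_exact₁' (ZZ X) hS' n₀ n₁ h)

include hS in
lemma injective_mapL_zero : Function.Injective (mapL k S.f 0) := by
  intro x y h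
  apply (Sheaf.H.equiv₀ (Coh.toAb S.X₁) isTerminalTop).injective
  haveI := hS.mono_f
  have hinj : Function.Injective (S.f.val.app (Opposite.op ⊤)).hom := by
    exact QCoh.app_injective_of_mono S.f ⊤
  apply hinj
  have e := fun z => Sheaf.H.equiv₀_naturality (f := (toAbF X).map S.f)
    isTerminalTop z
  exact (e x).trans ((congrArg _ h).trans (e y).symm)

lemma finrank_exact₃ {A B C : Type u} [AddCommGroup A] [AddCommGroup B] [AddCommGroup C]
    [Module k A] [Module k B] [Module k C] [Module.Finite k B]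
    (f : A →ₗ[k] B) (g : B →ₗ[k] C) (h : Function.Exact f g) :
    (Module.finrank k (LinearMap.range f) : ℤ) + Module.finrank k (LinearMap.range g) =
      Module.finrank k B := by
  rw [← h.linearMap_ker_eq, add_comm]
  exact_mod_cast g.finrank_range_add_finrank_ker

variable [IsIntegral X] [IsProper (X ↘ Spec (CommRingCat.of k))]
  (hv : ∀ x : X, ValuationRing (X.presheaf.stalk x)) (hdim : topologicalKrullDim X = 1)

include hS hv hdim in
/-- The Euler characteristic is additive on short exact sequences of coherent sheaves. -/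
theorem euler_additive (h₁ : Coh.IsCoh S.X₁) (h₂ : Coh.IsCoh S.X₂) (h₃ : Coh.IsCoh S.X₃) :
    Curv2.euler k X S.X₂ = Curv2.euler k X S.X₁ + Curv2.euler k X S.X₃ := by
  haveI := h₁.1
  haveI := h₂.1
  haveI := h₃.1
  rw [euler_eq S.X₁ hv hdim, euler_eq S.X₂ hv hdim, euler_eq S.X₃ hv hdim]
  haveI := finite_HH_zero (k := k) S.X₁ hv hdim h₁
  haveI := finite_HH_zero (k := k) S.X₂ hv hdim h₂
  haveI := finite_HH_zero (k := k) S.X₃ hv hdim h₃
  haveI := finite_HH_one (k := k) S.X₁ hv hdim h₁
  haveI := finite_HH_one (k := k) S.X₂ hv hdim h₂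
  haveI := finite_HH_one (k := k) S.X₃ hv hdim h₃
  have e1 := finrank_exact₃ k _ _ (exact_mapL k hS 0)
  have e2 := finrank_exact₃ k _ _ (exact_mapL_deltaL k hS 0 1 rfl)
  have e3 := finrank_exact₃ k _ _ (exact_deltaL_mapL k hS 0 1 rfl)
  have e4 := finrank_exact₃ k _ _ (exact_mapL k hS 1)
  have e0 := LinearMap.finrank_range_of_inj (injective_mapL_zero k hS)
  have e5 : LinearMap.range (mapL k S.g 1) = ⊤ := by
    haveI := subsingleton_HH k S.X₁ hv hdim 2 le_rfl
    refine eq_top_iff.mpr fun y _ => ?_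
    exact (exact_mapL_deltaL k hS 1 2 rfl y).mp (Subsingleton.elim _ _)
  rw [e5, finrank_top] at e4
  rw [e0] at e1
  linarith

end Groth.Agent.CurveCoh
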