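import Groth.Agent.CurveDVR.Stalk
import Groth.Agent.RegLoc.Basic
import Groth.Prelude.Def_Curve
import Mathlib.AlgebraicGeometry.Geometrically.Connected
import Mathlib.AlgebraicGeometry.Stalk
import Mathlib.RingTheory.Valuation.ValuationRing
import Mathlib.RingTheory.DiscreteValuationRing.Basic

/-!
# Smooth connected curves are integral, with valuation rings as local rings
-/

universe u

open CategoryTheory AlgebraicGeometry TopologicalSpace

set_option linter.style.haveILetI false

namespace Groth.Agent.CurveCoh

/-- A connected Noetherian scheme with domains as local rings is irreducible. -/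
theorem irreducibleSpace_of_domain_stalks (X : Scheme.{u}) [IsNoetherian X] [ConnectedSpace X]
    (h : ∀ x : X, IsDomain (X.presheaf.stalk x)) : IrreducibleSpace X := by
  have huniq : ∀ Z₁ ∈ irreducibleComponents X, ∀ Z₂ ∈ irreducibleComponents X, ∀ x, x ∈ Z₁ → x ∈ Z₂ →
      Z₁ = Z₂ := by
    intro Z₁ h₁ Z₂ h₂ x hx₁ hx₂
    haveI := h x
    let b : Spec (X.presheaf.stalk x) := (⊥ : PrimeSpectrum (X.presheaf.stalk x))
    have key : ∀ Z ∈ irreducibleComponents X, x ∈ Z → Z = closure {X.fromSpecStalk x b} := by
      intro Z hZ hxZ
      have hZc := isClosed_of_mem_irreducibleComponents Z hZ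
      have hgen := hZ.1.isGenericPoint_genericPoint_closure
      rw [hZc.closure_eq] at hgen
      have hsp : hZ.1.genericPoint ⤳ x := hgen.specializes hxZ
      obtain ⟨q, hq⟩ : hZ.1.genericPoint ∈ Set.range (X.fromSpecStalk x) := by
        rw [Scheme.range_fromSpecStalk]; exact hsp
      have hb : X.fromSpecStalk x b ⤳ hZ.1.genericPoint := by
        rw [← hq]
        exact (PrimeSpectrum.le_iff_specializes b q).mp bot_le |>.map (X.fromSpecStalk x).continuous
      have h1 : Z ⊆ closure {X.fromSpecStalk x b} := by
        rw [← hgen]
        exact closure_minimal (Set.singleton_subset_iff.mpr hb.mem_closure) isClosed_closure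
      exact h1.antisymm (hZ.2 (isIrreducible_singleton.closure) h1)
    rw [key Z₁ h₁ hx₁, key Z₂ h₂ hx₂]
  obtain ⟨x₀⟩ := (inferInstance : Nonempty X)
  let Z := irreducibleComponent x₀
  have hZ : Z ∈ irreducibleComponents X := irreducibleComponent_mem_irreducibleComponents x₀
  have hfin : (irreducibleComponents X).Finite := NoetherianSpace.finite_irreducibleComponents
  have hZo : IsOpen Z := by
    have hc : Zᶜ = ⋃ W ∈ irreducibleComponents X \ {Z}, W := by
      ext x
      simp only [Set.mem_compl_iff, Set.mem_iUnion, Set.mem_diff, Set.mem_singleton_iff, exists_prop]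
      constructor
      · intro hx
        exact ⟨irreducibleComponent x, ⟨irreducibleComponent_mem_irreducibleComponents x,
          fun h => hx (h ▸ mem_irreducibleComponent)⟩, mem_irreducibleComponent⟩
      · rintro ⟨W, ⟨hW, hne⟩, hxW⟩ hxZ
        exact hne (huniq W hW Z hZ x hxW hxZ)
    rw [← compl_compl Z, isOpen_compl_iff, hc]
    exact (hfin.subset Set.diff_subset).isClosed_biUnion fun W hW =>
      isClosed_of_mem_irreducibleComponents W hW.1
  have huniv : Z = Set.univ :=
    IsClopen.eq_univ ⟨isClosed_irreducibleComponent, hZo⟩ ⟨x₀, mem_irreducibleComponent⟩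
  rw [irreducibleSpace_def, Set.top_eq_univ, ← huniv]
  exact isIrreducible_irreducibleComponent

variable (k : Type u) [Field k] (X : Scheme.{u}) [X.Over (Spec (CommRingCat.of k))]
  [Smooth (X ↘ Spec (CommRingCat.of k))]

include k in
lemma isDomain_stalk (x : X) : IsDomain (X.presheaf.stalk x) :=
  haveI := CurveDVR.isRegularLocalRing_stalk (X ↘ Spec (CommRingCat.of k)) x
  RegLoc.isDomain _

/-- A smooth proper geometrically connected scheme over a field is integral. -/
theorem isIntegral_of_smooth [IsProper (X ↘ Spec (CommRingCat.of k))]
    [GeometricallyConnected (X ↘ Spec (CommRingCat.of k))] : IsIntegral X := by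
  haveI : IsLocallyNoetherian X := LocallyOfFiniteType.isLocallyNoetherian (X ↘ Spec (CommRingCat.of k))
  haveI : CompactSpace X := QuasiCompact.compactSpace_of_compactSpace (X ↘ Spec (CommRingCat.of k))
  haveI : IsNoetherian X := { }
  haveI : ConnectedSpace X :=
    GeometricallyConnected.connectedSpace_of_subsingleton (f := X ↘ Spec (CommRingCat.of k))
  haveI := irreducibleSpace_of_domain_stalks X (isDomain_stalk k X)
  haveI : ∀ x : X, _root_.IsReduced (X.presheaf.stalk x) := fun x =>
    haveI := isDomain_stalk k X x
    inferInstance
  haveI : IsReduced X := isReduced_of_isReduced_stalk X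
  exact isIntegral_of_irreducibleSpace_of_isReduced X

include k in
/-- The local rings of a smooth curve are valuation rings. -/
theorem valuationRing_stalk [IsIntegral X] (hdim : topologicalKrullDim X = 1) (x : X) :
    ValuationRing (X.presheaf.stalk x) := by
  by_cases hx : x = genericPoint X
  · subst hx
    change ValuationRing X.functionField
    infer_instance
  · haveI := CurveDVR.isDiscreteValuationRing_stalk (X ↘ Spec (CommRingCat.of k)) hdim
      (VarDim.isClosed_singleton_of_ne_genericPoint k hdim hx)
    infer_instance

end Groth.Agent.CurveCoh
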