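import Mathlib.Algebra.Polynomial.Module.Basic
import Mathlib.Algebra.Polynomial.Basis
import Mathlib.RingTheory.Polynomial.Basic
import Mathlib.LinearAlgebra.FiniteDimensional.Lemmas
import Mathlib.LinearAlgebra.Finsupp.Supported
import Mathlib.RingTheory.Finiteness.Basic
import Mathlib.Data.Int.Interval

/-!
# Linear algebra of a two-chart gluing on the projective line

`N` is a vector space with an automorphism `T` (multiplication by the coordinate on the overlap),
`M₀`, `M₁` are finite `k[X]`-modules mapped to `N` with `X` acting as `T`, resp. `T⁻¹`, such that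
every element of `N` comes from each of them after multiplying by a power of `T`, resp. `T⁻¹`.
Then the cokernel and the kernel of the difference map are finite-dimensional.
-/

universe u v w w'

open Polynomial

namespace Groth.Agent.CurveCoh

variable {k : Type u} [Field k]

section

variable {N : Type v} [AddCommGroup N] [Module k N] (T : N ≃ₗ[k] N)

lemma zpow_apply_add (i j : ℤ) (n : N) : (T ^ (i + j)) n = (T ^ i) ((T ^ j) n) := by
  rw [zpow_add]; rfl

variable {M : Type w} [AddCommGroup M] [Module k M] [Module k[X] M] [IsScalarTower k k[X] M]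

/-- A `k`-subspace stable under `X` absorbs all polynomials. -/
lemma smul_mem_of_X_smul_mem (P : Submodule k M) (hP : ∀ m ∈ P, (X : k[X]) • m ∈ P)
    (p : k[X]) {m : M} (hm : m ∈ P) : p • m ∈ P := by
  induction p using Polynomial.induction_on' with
  | add p q hp hq => rw [add_smul]; exact add_mem hp hq
  | monomial i a =>
    rw [← C_mul_X_pow_eq_monomial, mul_smul, ← Polynomial.algebraMap_eq, algebraMap_smul]
    refine P.smul_mem a ?_
    induction i with
    | zero => simpa using hm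
    | succ i ih => rw [pow_succ', mul_smul]; exact hP _ ih

/-- `k[X]`-generators in a `k`-subspace stable under `X` give everything. -/
lemma eq_top_of_X_smul_mem (P : Submodule k M) (hP : ∀ m ∈ P, (X : k[X]) • m ∈ P)
    (s : Set M) (hs : Submodule.span k[X] s = ⊤) (hsP : s ⊆ P) : P = ⊤ := by
  let P' : Submodule k[X] M :=
    { carrier := P
      add_mem' := fun h h' => P.add_mem h h'
      zero_mem' := P.zero_mem
      smul_mem' := fun p _ hm => smul_mem_of_X_smul_mem P hP p hm }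
  refine eq_top_iff.mpr fun m _ => ?_
  have : Submodule.span k[X] s ≤ P' := Submodule.span_le.mpr hsP
  exact this (hs ▸ Submodule.mem_top)

variable {T} (ρ : M →ₗ[k] N) (hρ : ∀ m, ρ ((X : k[X]) • m) = T (ρ m))

include hρ in
lemma map_X_pow_smul (i : ℕ) (m : M) : ρ ((X ^ i : k[X]) • m) = (T ^ (i : ℤ)) (ρ m) := by
  induction i with
  | zero => simp
  | succ i ih =>
    rw [pow_succ', mul_smul, hρ, ih, Nat.cast_succ, add_comm, zpow_apply_add, zpow_one]

include hρ in
/-- The cokernel half: finitely many vectors complement `range ρ ⊔ R₁`. -/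
theorem exists_finset_span_eq_top [Module.Finite k[X] M] (R₁ : Submodule k N)
    (hR₁ : ∀ n ∈ R₁, T.symm n ∈ R₁)
    (h₀ : ∀ n, ∃ (a : ℕ) (m : M), ρ m = (T ^ (a : ℤ)) n)
    (h₁ : ∀ n, ∃ a : ℕ, (T ^ (-(a : ℤ))) n ∈ R₁) :
    ∃ s : Finset N, LinearMap.range ρ ⊔ R₁ ⊔ Submodule.span k (s : Set N) = ⊤ := by
  classical
  obtain ⟨G, hG⟩ := Module.Finite.fg_top (R := k[X]) (M := M)
  choose b hb using h₁
  have hneg : ∀ (i : ℕ) (n : N), n ∈ R₁ → (T ^ (-(i : ℤ))) n ∈ R₁ := by
    intro i n hn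
    induction i with
    | zero => simpa using hn
    | succ i ih =>
      rw [Nat.cast_succ, neg_add, add_comm, zpow_apply_add, zpow_neg_one]
      exact hR₁ _ ih
  let B := G.sup fun g => b (ρ g)
  let s : Finset N := ((G ×ˢ Finset.range (B + 1)).image fun x => (T ^ (-(x.2 : ℤ))) (ρ x.1))
  refine ⟨s, ?_⟩
  set S := LinearMap.range ρ ⊔ R₁ ⊔ Submodule.span k (s : Set N) with hS
  let P : Submodule k M := ⨅ j : ℤ, S.comap ((T ^ j).toLinearMap ∘ₗ ρ)
  have hP : P = ⊤ := by
    refine eq_top_of_X_smul_mem P (fun m hm => ?_) (G : Set M) hG fun g hg => ?_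
    · rw [Submodule.mem_iInf] at hm ⊢
      intro j
      have := hm (j + 1)
      rw [Submodule.mem_comap] at this ⊢
      change (T ^ j) (ρ ((X : k[X]) • m)) ∈ S
      rw [hρ]
      rwa [LinearMap.comp_apply, LinearEquiv.coe_coe, zpow_apply_add, zpow_one] at this
    · refine (Submodule.mem_iInf _).mpr fun j => ?_
      change (T ^ j) (ρ g) ∈ S
      rcases le_or_gt 0 j with hj | hj
      · obtain ⟨i, rfl⟩ := Int.eq_ofNat_of_zero_le hj
        rw [← map_X_pow_smul ρ hρ i g]
        exact Submodule.mem_sup_left (Submodule.mem_sup_left ⟨_, rfl⟩)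
      · obtain ⟨i, rfl⟩ := Int.exists_eq_neg_ofNat hj.le
        by_cases hi : i ≤ B
        · refine Submodule.mem_sup_right (Submodule.subset_span ?_)
          simp only [s, Finset.coe_image, Set.mem_image, Finset.mem_coe, Finset.mem_product,
            Finset.mem_range]
          exact ⟨(g, i), ⟨hg, Nat.lt_succ_of_le hi⟩, rfl⟩
        · have hbi : b (ρ g) ≤ i :=
            (Finset.le_sup (f := fun g => b (ρ g)) hg).trans (Nat.le_of_lt (not_le.mp hi))
          obtain ⟨d, rfl⟩ := Nat.exists_eq_add_of_le hbi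
          rw [show (-((b (ρ g) + d : ℕ) : ℤ)) = -(d : ℤ) + -(b (ρ g) : ℤ) by push_cast; ring,
            zpow_apply_add]
          exact Submodule.mem_sup_left (Submodule.mem_sup_right (hneg d _ (hb _)))
  refine eq_top_iff.mpr fun n _ => ?_
  obtain ⟨a, m, hm⟩ := h₀ n
  have hmP : m ∈ P := hP ▸ Submodule.mem_top
  have := (Submodule.mem_iInf _).mp hmP (-(a : ℤ))
  change (T ^ (-(a : ℤ))) (ρ m) ∈ S at this
  rwa [hm, ← zpow_apply_add, neg_add_cancel, zpow_zero] at this

include hρ in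
/-- The kernel of `ρ` is finite-dimensional as it consists of `X`-power torsion. -/
theorem finiteDimensional_ker [Module.Finite k[X] M]
    (htors : ∀ m, ρ m = 0 → ∃ a : ℕ, (X ^ a : k[X]) • m = 0) :
    FiniteDimensional k (LinearMap.ker ρ) := by
  classical
  let K : Submodule k[X] M :=
    { carrier := LinearMap.ker ρ
      add_mem' := fun h h' => add_mem h h'
      zero_mem' := zero_mem _
      smul_mem' := fun p _ hm => smul_mem_of_X_smul_mem (LinearMap.ker ρ) (fun m hm => by
        rw [LinearMap.mem_ker] at hm ⊢; rw [hρ, hm, map_zero]) p hm }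
  obtain ⟨G, hG⟩ := (IsNoetherian.noetherian K : K.FG)
  have hGK : ∀ g ∈ G, ρ g = 0 := fun g hg => by
    have : g ∈ K := hG ▸ Submodule.subset_span hg
    exact this
  choose! a ha using fun g (hg : g ∈ G) => htors g (hGK g hg)
  let B := G.sup a
  let F : Finset M := (G ×ˢ Finset.range B).image fun x => (X ^ x.2 : k[X]) • x.1
  let P := Submodule.span k (F : Set M)
  haveI : FiniteDimensional k P := FiniteDimensional.span_finset k F
  have hgen : ∀ g ∈ G, ∀ i, (X ^ i : k[X]) • g ∈ P := by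
    intro g hg i
    by_cases hi : i < B
    · refine Submodule.subset_span ?_
      simp only [F, Finset.coe_image, Set.mem_image, Finset.mem_coe, Finset.mem_product,
        Finset.mem_range]
      exact ⟨(g, i), ⟨hg, hi⟩, rfl⟩
    · have : a g ≤ i := (Finset.le_sup hg).trans (not_lt.mp hi)
      obtain ⟨d, rfl⟩ := Nat.exists_eq_add_of_le this
      rw [pow_add, mul_comm, mul_smul, ha g hg, smul_zero]
      exact zero_mem _
  have hstable : ∀ m ∈ P, (X : k[X]) • m ∈ P := by
    intro m hm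
    induction hm using Submodule.span_induction with
    | mem x hx =>
      simp only [F, Finset.coe_image, Set.mem_image, Finset.mem_coe, Finset.mem_product,
        Finset.mem_range] at hx
      obtain ⟨⟨g, i⟩, ⟨hg, -⟩, rfl⟩ := hx
      rw [← mul_smul, ← pow_succ']
      exact hgen g hg _
    | zero => rw [smul_zero]; exact zero_mem _
    | add x y _ _ hx hy => rw [smul_add]; exact add_mem hx hy
    | smul c x _ hx => rw [smul_comm]; exact P.smul_mem c hx
  refine Submodule.finiteDimensional_of_le (S₂ := P) fun m hm => ?_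
  have hm' : m ∈ Submodule.span k[X] (G : Set M) := by rw [hG]; exact hm
  induction hm' using Submodule.span_induction with
  | mem x hx => simpa using hgen x hx 0
  | zero => exact zero_mem _
  | add x y hx' hy' hx hy =>
    exact add_mem (hx (hG.le hx')) (hy (hG.le hy'))
  | smul c x hx' hx => exact smul_mem_of_X_smul_mem P hstable c (hx (hG.le hx'))

end

section

variable {N : Type v} [AddCommGroup N] [Module k N] (T : N ≃ₗ[k] N)
variable {M₀ : Type w} [AddCommGroup M₀] [Module k M₀] [Module k[X] M₀] [IsScalarTower k k[X] M₀]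
  [Module.Finite k[X] M₀]
variable {M₁ : Type w'} [AddCommGroup M₁] [Module k M₁] [Module k[X] M₁] [IsScalarTower k k[X] M₁]
  [Module.Finite k[X] M₁]
variable (ρ₀ : M₀ →ₗ[k] N) (ρ₁ : M₁ →ₗ[k] N)

/-- The cokernel of the difference map is finite-dimensional. -/
theorem finiteDimensional_coker
    (hρ₀ : ∀ m, ρ₀ ((X : k[X]) • m) = T (ρ₀ m)) (hρ₁ : ∀ m, ρ₁ ((X : k[X]) • m) = T.symm (ρ₁ m))
    (h₀ : ∀ n, ∃ (a : ℕ) (m : M₀), ρ₀ m = (T ^ (a : ℤ)) n)
    (h₁ : ∀ n, ∃ (a : ℕ) (m : M₁), ρ₁ m = (T ^ (-(a : ℤ))) n) :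
    FiniteDimensional k (N ⧸ (LinearMap.range ρ₀ ⊔ LinearMap.range ρ₁)) := by
  obtain ⟨s, hs⟩ := exists_finset_span_eq_top ρ₀ hρ₀ (LinearMap.range ρ₁)
    (fun n ⟨m, hm⟩ => ⟨(X : k[X]) • m, by rw [hρ₁, hm]⟩)
    h₀ (fun n => (h₁ n).imp fun a ⟨m, hm⟩ => ⟨m, hm⟩)
  set S := LinearMap.range ρ₀ ⊔ LinearMap.range ρ₁
  refine Module.Finite.of_surjective (S.mkQ ∘ₗ (Submodule.span k (s : Set N)).subtype) fun q => ?_
  obtain ⟨n, rfl⟩ := S.mkQ_surjective q
  obtain ⟨y, hy, z, hz, rfl⟩ := Submodule.mem_sup.mp (hs ▸ Submodule.mem_top (x := n))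
  exact ⟨⟨z, hz⟩, by simp [(Submodule.Quotient.mk_eq_zero S).mpr hy]⟩

/-- The intersection of the two images is finite-dimensional. -/
theorem finiteDimensional_inf
    (hρ₀ : ∀ m, ρ₀ ((X : k[X]) • m) = T (ρ₀ m)) (hρ₁ : ∀ m, ρ₁ ((X : k[X]) • m) = T.symm (ρ₁ m))
    (h₀ : ∀ n, ∃ (a : ℕ) (m : M₀), ρ₀ m = (T ^ (a : ℤ)) n) :
    FiniteDimensional k (LinearMap.range ρ₀ ⊓ LinearMap.range ρ₁ : Submodule k N) := by
  classical
  obtain ⟨G, hG⟩ := Module.Finite.fg_top (R := k[X]) (M := M₀)
  obtain ⟨H, hH⟩ := Module.Finite.fg_top (R := k[X]) (M := M₁)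
  let π : (G × ℤ →₀ k) →ₗ[k] N := Finsupp.linearCombination k fun x => (T ^ x.2) (ρ₀ x.1)
  let σ : (G × ℤ →₀ k) ≃ₗ[k] (G × ℤ →₀ k) :=
    Finsupp.domLCongr ((Equiv.refl G).prodCongr (Equiv.addRight (1 : ℤ)))
  have hσ : ∀ g j c, σ (Finsupp.single (g, j) c) = Finsupp.single (g, j + 1) c := by
    intro g j c; simp [σ]
  have hσz : ∀ (i : ℤ) g j c,
      (σ ^ i) (Finsupp.single (g, j) c) = Finsupp.single (g, j + i) c := by
    intro i
    induction i using Int.induction_on with
    | zero => intro g j c; simp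
    | succ i ih =>
      intro g j c; rw [zpow_apply_add, zpow_one, hσ, ih]; congr 2; ring
    | pred i ih =>
      intro g j c
      rw [sub_eq_add_neg, zpow_apply_add, zpow_neg_one]
      have : σ.symm (Finsupp.single (g, j) c) = Finsupp.single (g, j - 1) c := by
        rw [LinearEquiv.symm_apply_eq, hσ, sub_add_cancel]
      change (σ ^ (-(i : ℤ))) (σ.symm (Finsupp.single (g, j) c)) = _
      rw [this, ih]; congr 2; ring
  have hπσ : ∀ f, π (σ f) = T (π f) := by
    intro f
    induction f using Finsupp.induction_linear with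
    | zero => simp
    | add f f' h h' => simp [h, h']
    | single x c =>
      obtain ⟨g, j⟩ := x
      rw [hσ]
      simp only [π, Finsupp.linearCombination_single, map_smul]
      rw [add_comm j 1, zpow_apply_add, zpow_one]
  let e : (G → k[X]) →ₗ[k] (G × ℤ →₀ k) :=
    ∑ g : G, (Polynomial.basisMonomials k).constr k
      (fun j => Finsupp.single (g, (j : ℤ)) (1 : k)) ∘ₗ LinearMap.proj g
  have he : ∀ g (j : ℕ), e (Pi.single g (monomial j 1)) = Finsupp.single (g, (j : ℤ)) 1 := by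
    intro g j
    simp only [e, LinearMap.sum_apply, LinearMap.comp_apply, LinearMap.proj_apply]
    rw [Finset.sum_eq_single g (fun g' _ hg' => by rw [Pi.single_eq_of_ne hg', map_zero])
      (fun h => absurd (Finset.mem_univ g) h), Pi.single_eq_same,
      show (monomial j (1 : k)) = Polynomial.basisMonomials k j by simp, Module.Basis.constr_basis]
  have heX : ∀ p, e ((X : k[X]) • p) = σ (e p) := by
    intro p
    simp only [e, LinearMap.sum_apply, LinearMap.comp_apply, LinearMap.proj_apply, map_sum,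
      Pi.smul_apply, smul_eq_mul]
    refine Finset.sum_congr rfl fun g _ => ?_
    induction p g using Polynomial.induction_on' with
    | add a b ha hb => rw [mul_add, map_add, map_add, map_add, ha, hb]
    | monomial i a =>
      rw [X_mul_monomial,
        show monomial (i + 1) a = a • Polynomial.basisMonomials k (i + 1) by simp [smul_monomial],
        show monomial i a = a • Polynomial.basisMonomials k i by simp [smul_monomial],
        map_smul, map_smul, map_smul, Module.Basis.constr_basis, Module.Basis.constr_basis, hσ]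
      push_cast; rfl
  let K : Submodule k (G × ℤ →₀ k) := LinearMap.ker π
  have hK : ∀ f ∈ K, σ f ∈ K := fun f hf => by
    rw [LinearMap.mem_ker] at hf ⊢; rw [hπσ, hf, map_zero]
  have hK' : ∀ f ∈ K, σ.symm f ∈ K := fun f hf => by
    rw [LinearMap.mem_ker] at hf ⊢
    apply T.injective
    rw [← hπσ, LinearEquiv.apply_symm_apply, hf, map_zero]
  let K₀ : Submodule k[X] (G → k[X]) :=
    { carrier := K.comap e
      add_mem' := fun h h' => add_mem h h'
      zero_mem' := zero_mem _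
      smul_mem' := fun p m hm => smul_mem_of_X_smul_mem (K.comap e) (fun m hm => by
        rw [Submodule.mem_comap] at hm ⊢; rw [heX]; exact hK _ hm) p hm }
  let τ : K ≃ₗ[k] K := σ.ofSubmodules K K (le_antisymm
    (Submodule.map_le_iff_le_comap.mpr fun f hf => hK f hf)
    (fun f hf => ⟨σ.symm f, hK' f hf, LinearEquiv.apply_symm_apply σ f⟩))
  have hτ : ∀ (i : ℤ) (f : K), (((τ ^ i) f : K) : G × ℤ →₀ k) = (σ ^ i) (f : G × ℤ →₀ k) := by
    intro i
    induction i using Int.induction_on with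
    | zero => intro f; simp
    | succ i ih =>
      intro f
      rw [zpow_add, zpow_add, zpow_one, zpow_one, LinearEquiv.mul_apply, LinearEquiv.mul_apply, ih]; rfl
    | pred i ih =>
      intro f
      rw [sub_eq_add_neg, zpow_add, zpow_add, zpow_neg_one, zpow_neg_one, LinearEquiv.mul_apply, LinearEquiv.mul_apply, ih]; rfl
  let ρK : K₀ →ₗ[k] K :=
    LinearMap.codRestrict K (e ∘ₗ (K₀.subtype.restrictScalars k)) fun m => m.2
  let P₀ : Submodule k (G × ℤ →₀ k) := Finsupp.supported k k {x | 0 ≤ x.2}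
  have hsupp : ∀ (P : ℤ → Prop) (f : G × ℤ →₀ k), (∀ x ∈ f.support, P x.2) →
      f ∈ Finsupp.supported k k {x : G × ℤ | P x.2} := fun P f h => h
  -- a bound for the supports of chosen preimages of the generators of `M₁`
  have hπsurj : Function.Surjective π := by
    intro n
    obtain ⟨a, m, hm⟩ := h₀ n
    let P : Submodule k M₀ := (LinearMap.range π).comap ρ₀
    have hP : P = ⊤ := by
      refine eq_top_of_X_smul_mem P (fun m ⟨f, hf⟩ => ⟨σ f, by rw [hπσ, hf, hρ₀]⟩) _ hG
        fun g hg => ⟨Finsupp.single (⟨g, hg⟩, 0) 1, by simp [π]⟩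
    obtain ⟨f, hf⟩ := (hP ▸ Submodule.mem_top : m ∈ P)
    refine ⟨(σ ^ (-(a : ℤ))) f, ?_⟩
    have hπz : ∀ (i : ℤ) f, π ((σ ^ i) f) = (T ^ i) (π f) := by
      intro i
      induction i using Int.induction_on with
      | zero => intro f; simp
      | succ i ih => intro f; rw [zpow_apply_add, zpow_one, ih, hπσ, zpow_apply_add, zpow_one]
      | pred i ih =>
        intro f
        rw [sub_eq_add_neg, zpow_apply_add, zpow_neg_one, ih, zpow_apply_add, zpow_neg_one]
        congr 1
        change π (σ.symm f) = T.symm (π f)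
        rw [LinearEquiv.eq_symm_apply, ← hπσ, LinearEquiv.apply_symm_apply]
    rw [hπz, hf, hm, ← zpow_apply_add, neg_add_cancel, zpow_zero]; rfl
  choose pre hpre using hπsurj
  let c : ℕ := H.sup fun h => (pre (ρ₁ h)).support.sup fun x => x.2.toNat
  let P₁ : Submodule k (G × ℤ →₀ k) := Finsupp.supported k k {x | x.2 ≤ (c : ℤ)}
  have hP₁ : ∀ f ∈ P₁, σ.symm f ∈ P₁ := by
    intro f hf
    refine hsupp (fun j => j ≤ (c : ℤ)) _ fun x hx => ?_
    have hsym : σ.symm f = Finsupp.equivMapDomain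
        ((Equiv.refl G).prodCongr (Equiv.addRight (1 : ℤ))).symm f := rfl
    rw [Finsupp.mem_support_iff, hsym, Finsupp.equivMapDomain_apply] at hx
    have := hf (Finsupp.mem_support_iff.mpr hx)
    simp only [Equiv.symm_symm, Set.mem_ofPred_eq, Equiv.prodCongr_apply, Prod.map_snd,
      Equiv.coe_addRight] at this
    omega
  have hR₁ : LinearMap.range ρ₁ ≤ P₁.map π := by
    rintro _ ⟨m, rfl⟩
    let P : Submodule k M₁ := (P₁.map π).comap ρ₁
    suffices P = ⊤ from (this ▸ Submodule.mem_top : m ∈ P)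
    refine eq_top_of_X_smul_mem P (fun m ⟨f, hf, hfm⟩ => ⟨σ.symm f, hP₁ f hf, ?_⟩) _ hH fun h hh => ?_
    · rw [hρ₁, ← hfm, LinearEquiv.eq_symm_apply, ← hπσ, LinearEquiv.apply_symm_apply]
    · refine ⟨pre (ρ₁ h), hsupp (fun j => j ≤ (c : ℤ)) _ fun x hx => ?_, hpre _⟩
      have : x.2.toNat ≤ c := (Finset.le_sup (f := fun x : G × ℤ => x.2.toNat) hx).trans
        (Finset.le_sup (f := fun h => (pre (ρ₁ h)).support.sup fun x => x.2.toNat) hh)
      omega
  have hR₀ : LinearMap.range ρ₀ ≤ (LinearMap.range e).map π := by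
    rintro _ ⟨m, rfl⟩
    let P : Submodule k M₀ := ((LinearMap.range e).map π).comap ρ₀
    suffices P = ⊤ from (this ▸ Submodule.mem_top : m ∈ P)
    refine eq_top_of_X_smul_mem P (fun m ⟨f, ⟨p, hp⟩, hfm⟩ =>
      ⟨σ f, ⟨(X : k[X]) • p, by rw [heX, hp]⟩, by rw [hπσ, hfm, hρ₀]⟩) _ hG fun g hg => ?_
    refine ⟨_, ⟨Pi.single ⟨g, hg⟩ (monomial 0 1), rfl⟩, ?_⟩
    rw [he]; simp [π]
  have he_range : P₀ ≤ LinearMap.range e := by
    simp only [P₀]
    rw [Finsupp.supported_eq_span_single, Submodule.span_le]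
    rintro _ ⟨⟨g, j⟩, hj, rfl⟩
    obtain ⟨i, rfl⟩ := Int.eq_ofNat_of_zero_le hj
    exact ⟨_, he g i⟩
  have he_nonneg : LinearMap.range e ≤ P₀ := by
    rintro _ ⟨p, rfl⟩
    simp only [e, LinearMap.sum_apply, LinearMap.comp_apply, LinearMap.proj_apply]
    refine sum_mem fun g _ => ?_
    induction p g using Polynomial.induction_on' with
    | add a b ha hb => rw [map_add]; exact add_mem ha hb
    | monomial i a =>
      rw [show monomial i a = a • Polynomial.basisMonomials k i by simp [smul_monomial],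
        map_smul, Module.Basis.constr_basis]
      exact Submodule.smul_mem _ a (Finsupp.single_mem_supported k 1 (Int.natCast_nonneg i))
  obtain ⟨s, hs⟩ := exists_finset_span_eq_top (k := k) (N := ↥K) (M := ↥K₀) (T := τ) ρK
    (fun (m : ↥K₀) => Subtype.ext (heX m.1))
    (P₁.comap K.subtype) (fun (f : ↥K) hf => hP₁ _ hf)
    (fun (f : ↥K) => by
      let a := ((f : G × ℤ →₀ k).support.sup fun x => (-x.2).toNat)
      have hf' : (σ ^ (a : ℤ)) (f : G × ℤ →₀ k) ∈ P₀ := by
        rw [← Finsupp.sum_single (f : G × ℤ →₀ k), Finsupp.sum, map_sum]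
        refine sum_mem fun x hx => ?_
        obtain ⟨g, j⟩ := x
        rw [hσz]
        have := Finset.le_sup (f := fun x : G × ℤ => (-x.2).toNat) hx
        refine Finsupp.single_mem_supported k _ (show 0 ≤ j + (a : ℤ) from ?_)
        change (-j).toNat ≤ a at this
        omega
      obtain ⟨p, hp⟩ := he_range hf'
      have hfK : (σ ^ (a : ℤ)) (f : G × ℤ →₀ k) ∈ K := hτ a f ▸ ((τ ^ (a : ℤ)) f).2
      exact ⟨a, ⟨p, show e p ∈ K from hp ▸ hfK⟩, Subtype.ext (by rw [hτ]; exact hp)⟩)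
    (fun (f : ↥K) => by
      let a := ((f : G × ℤ →₀ k).support.sup fun x => x.2.toNat)
      refine ⟨a, ?_⟩
      change (((τ ^ (-(a : ℤ))) f : K) : G × ℤ →₀ k) ∈ P₁
      rw [hτ, ← Finsupp.sum_single (f : G × ℤ →₀ k), Finsupp.sum, map_sum]
      refine sum_mem fun x hx => ?_
      obtain ⟨g, j⟩ := x
      rw [hσz]
      have := Finset.le_sup (f := fun x : G × ℤ => x.2.toNat) hx
      refine Finsupp.single_mem_supported k _ (show j + -(a : ℤ) ≤ (c : ℤ) from ?_)
      change j.toNat ≤ a at this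
      omega)
  let B : ℕ := max c (s.sup fun f => (f : G × ℤ →₀ k).support.sup fun x => x.2.toNat)
  let W : Submodule k (G × ℤ →₀ k) :=
    Finsupp.supported k k ((Set.univ : Set G) ×ˢ Set.Icc (0 : ℤ) (B : ℤ))
  haveI : FiniteDimensional k W := by
    haveI : Finite ↥((Set.univ : Set G) ×ˢ Set.Icc (0 : ℤ) (B : ℤ)) :=
      (Set.finite_univ.prod (Set.finite_Icc _ _)).to_subtype
    exact Module.Finite.equiv (Finsupp.supportedEquivFinsupp
      ((Set.univ : Set G) ×ˢ Set.Icc (0 : ℤ) (B : ℤ))).symm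
  refine Submodule.finiteDimensional_of_le (S₂ := W.map π) ?_
  rintro x ⟨hx₀, hx₁⟩
  obtain ⟨p, hp, rfl⟩ := hR₀ hx₀
  obtain ⟨q, hq, hqp⟩ := hR₁ hx₁
  have hκ : p - q ∈ K := by rw [LinearMap.mem_ker, map_sub, hqp, sub_self]
  obtain ⟨y, hy, r, hr, hyr⟩ :=
    Submodule.mem_sup.mp (hs ▸ Submodule.mem_top (x := (⟨p - q, hκ⟩ : K)))
  obtain ⟨κ₀, ⟨m, rfl⟩, κ₁, hκ₁, rfl⟩ := Submodule.mem_sup.mp hy
  have hdec : e m.1 + κ₁.1 + r.1 = p - q := congrArg Subtype.val hyr
  have hw : p - e m.1 ∈ W := by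
    intro x hx
    refine ⟨trivial, ?_, ?_⟩
    · exact (sub_mem (he_nonneg hp) (he_nonneg ⟨m.1, rfl⟩) : p - e m.1 ∈ P₀) hx
    · have heq : p - e m.1 = q + κ₁.1 + r.1 := by
        rw [add_assoc, sub_eq_iff_eq_add]
        calc p = (p - q) + q := (sub_add_cancel p q).symm
          _ = e m.1 + κ₁.1 + r.1 + q := by rw [hdec]
          _ = q + (κ₁.1 + r.1) + e m.1 := by abel
      have hr' : r.1 ∈ Finsupp.supported k k {x : G × ℤ | x.2 ≤ (B : ℤ)} := by
        have hspan : Submodule.span k (s : Set K) ≤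
            (Finsupp.supported k k {x : G × ℤ | x.2 ≤ (B : ℤ)}).comap K.subtype := by
          refine Submodule.span_le.mpr fun f hf x hx => ?_
          have h1 := (Finset.le_sup (f := fun x : G × ℤ => x.2.toNat) hx).trans
            (Finset.le_sup (f := fun f : K => (f : G × ℤ →₀ k).support.sup fun x => x.2.toNat) hf)
          change x.2 ≤ (B : ℤ)
          have h2 : x.2.toNat ≤ B := h1.trans (le_max_right _ _)
          omega
        exact hspan hr
      have h1 : P₁ ≤ Finsupp.supported k k {x : G × ℤ | x.2 ≤ (B : ℤ)} :=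
        Finsupp.supported_mono fun x (hx : x.2 ≤ (c : ℤ)) =>
          hx.trans (Int.ofNat_le.mpr (le_max_left _ _))
      exact (heq ▸ add_mem (add_mem (h1 hq) (h1 hκ₁)) hr' :
        p - e m.1 ∈ Finsupp.supported k k {x : G × ℤ | x.2 ≤ (B : ℤ)}) hx
  exact ⟨p - e m.1, hw, by rw [map_sub, show π (e m.1) = 0 from m.2, sub_zero]⟩

/-- The kernel of the difference map is finite-dimensional. -/
theorem finiteDimensional_ker_sub
    (hρ₀ : ∀ m, ρ₀ ((X : k[X]) • m) = T (ρ₀ m)) (hρ₁ : ∀ m, ρ₁ ((X : k[X]) • m) = T.symm (ρ₁ m))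
    (h₀ : ∀ n, ∃ (a : ℕ) (m : M₀), ρ₀ m = (T ^ (a : ℤ)) n)
    (ht₀ : ∀ m, ρ₀ m = 0 → ∃ a : ℕ, (X ^ a : k[X]) • m = 0)
    (ht₁ : ∀ m, ρ₁ m = 0 → ∃ a : ℕ, (X ^ a : k[X]) • m = 0) :
    FiniteDimensional k (LinearMap.ker (ρ₀.coprod (-ρ₁))) := by
  haveI := finiteDimensional_inf T ρ₀ ρ₁ hρ₀ hρ₁ h₀
  haveI := finiteDimensional_ker ρ₀ hρ₀ ht₀
  haveI := finiteDimensional_ker (T := T.symm) ρ₁ hρ₁ ht₁
  set D := LinearMap.ker (ρ₀.coprod (-ρ₁))
  have hD : ∀ x : D, ρ₀ x.1.1 = ρ₁ x.1.2 := fun x => by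
    have h : ρ₀ x.1.1 + -ρ₁ x.1.2 = 0 := x.2
    rwa [add_neg_eq_zero] at h
  let f : D →ₗ[k] (LinearMap.range ρ₀ ⊓ LinearMap.range ρ₁ : Submodule k N) :=
    LinearMap.codRestrict _ (ρ₀ ∘ₗ LinearMap.fst k M₀ M₁ ∘ₗ D.subtype) fun x =>
      ⟨⟨x.1.1, rfl⟩, ⟨x.1.2, (hD x).symm⟩⟩
  haveI : Module.Finite k (LinearMap.ker f) := by
    have hf : ∀ x : LinearMap.ker f, ρ₀ x.1.1.1 = 0 := fun x => congrArg Subtype.val x.2
    refine Module.Finite.of_injective
      ((LinearMap.codRestrict (LinearMap.ker ρ₀)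
          (LinearMap.fst k M₀ M₁ ∘ₗ D.subtype ∘ₗ (LinearMap.ker f).subtype) hf).prod
        (LinearMap.codRestrict (LinearMap.ker ρ₁)
          (LinearMap.snd k M₀ M₁ ∘ₗ D.subtype ∘ₗ (LinearMap.ker f).subtype)
          fun x => (hD x.1).symm.trans (hf x))) fun x y h => ?_
    exact Subtype.ext (Subtype.ext (Prod.ext (congrArg (fun z => z.1.1) h)
      (congrArg (fun z => z.2.1) h)))
  haveI : Module.Finite k (LinearMap.range f) := inferInstance
  haveI : Module.Finite k (D ⧸ LinearMap.ker f) := Module.Finite.equiv f.quotKerEquivRange.symm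
  exact Module.Finite.of_submodule_quotient (LinearMap.ker f)

end

end Groth.Agent.CurveCoh
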