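import Groth.Agent.VarDim.Curve
import Groth.Prelude.Def_Coh
import Mathlib.AlgebraicGeometry.FunctionField
import Mathlib.AlgebraicGeometry.Stalk
import Mathlib.AlgebraicGeometry.ZariskisMainTheorem
import Mathlib.AlgebraicGeometry.Morphisms.Finite
import Mathlib.AlgebraicGeometry.Morphisms.QuasiFinite
import Mathlib.AlgebraicGeometry.Morphisms.Immersion
import Mathlib.RingTheory.Valuation.ValuationRing
import Mathlib.RingTheory.Polynomial.Basic

/-!
# The locus of regularity of a rational function on a proper curve

For a proper integral curve with valuation local rings and a transcendental rational function `f`,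
the open where `f` is regular is finite over the affine line through `f`.
-/

universe u

open CategoryTheory AlgebraicGeometry Limits

set_option linter.style.haveILetI false

namespace Groth.Agent.CurveCoh

lemma germ_topIso_inv {X : Scheme.{u}} (U : X.Opens) (η : (U : Scheme.{u})) (a : Γ(X, U)) :
    (U : Scheme.{u}).presheaf.germ ⊤ η trivial (U.topIso.inv a) =
      U.ι.stalkMap η (X.presheaf.germ U (U.ι η) η.2 a) := by
  have l : U.ι.app U a = (U : Scheme.{u}).presheaf.map (homOfLE le_top).op (U.topIso.inv a) := by
    change X.presheaf.map _ a = X.presheaf.map _ (X.presheaf.map _ a)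
    erw [← ConcreteCategory.comp_apply, ← Functor.map_comp]
    rfl
  refine Eq.trans ?_ (Scheme.Hom.germ_stalkMap_apply U.ι U η η.2 a).symm
  rw [l]
  exact (TopCat.Presheaf.germ_res_apply _ _ _ _ _).symm

variable {X : Scheme.{u}} [IsIntegral X]

/-- `f` is regular at `x`. -/
def IsReg (f : X.functionField) (x : X) : Prop :=
  ∃ z : X.presheaf.stalk x, algebraMap (X.presheaf.stalk x) X.functionField z = f

lemma genericPoint_mem {W : X.Opens} {x : X} (hx : x ∈ W) : genericPoint X ∈ W :=
  ((genericPoint_spec X).specializes trivial).mem_open W.2 hx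

lemma algebraMap_germ {W : X.Opens} (x : X) (hx : x ∈ W) (s : Γ(X, W)) :
    algebraMap (X.presheaf.stalk x) X.functionField (X.presheaf.germ W x hx s) =
      X.presheaf.germ W (genericPoint X) (genericPoint_mem hx) s := by
  rw [RingHom.algebraMap_toAlgebra, ← ConcreteCategory.comp_apply,
    X.presheaf.germ_stalkSpecializes]

lemma exists_germ_eq_of_isReg {f : X.functionField} {x : X} (h : IsReg f x) :
    ∃ (W : X.Opens) (hx : x ∈ W) (s : Γ(X, W)),
      X.presheaf.germ W (genericPoint X) (genericPoint_mem hx) s = f := by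
  obtain ⟨z, hz⟩ := h
  obtain ⟨W, hx, s, rfl⟩ := X.presheaf.exists_germ_eq z
  exact ⟨W, hx, s, by rw [← algebraMap_germ x hx, hz]⟩

lemma isOpen_isReg (f : X.functionField) : IsOpen {x : X | IsReg f x} := by
  refine isOpen_iff_forall_mem_open.mpr fun x hx => ?_
  obtain ⟨W, hxW, s, hs⟩ := exists_germ_eq_of_isReg hx
  exact ⟨W, fun y hy => ⟨X.presheaf.germ W y hy s, by rw [algebraMap_germ y hy]; exact hs⟩, W.2, hxW⟩

/-- The open subset where `f` is regular. -/
def regLocus (f : X.functionField) : X.Opens := ⟨_, isOpen_isReg f⟩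

lemma mem_regLocus {f : X.functionField} {x : X} : x ∈ regLocus f ↔ IsReg f x := Iff.rfl

lemma genericPoint_mem_regLocus (f : X.functionField) : genericPoint X ∈ regLocus f :=
  ⟨f, by rw [RingHom.algebraMap_toAlgebra]; simp⟩

lemma exists_regSection (f : X.functionField) :
    ∃ t : Γ(X, regLocus f),
      X.presheaf.germ (regLocus f) (genericPoint X) (genericPoint_mem_regLocus f) t = f := by
  have hch := fun x : regLocus f => exists_germ_eq_of_isReg x.2
  choose W hW s hs using hch
  let V : regLocus f → X.Opens := fun x => W x ⊓ regLocus f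
  let sf : ∀ x, Γ(X, V x) := fun x => X.presheaf.map (homOfLE inf_le_left).op (s x)
  have hcomp : TopCat.Presheaf.IsCompatible X.sheaf.1 V sf := by
    intro a b
    have hm : genericPoint X ∈ V a ⊓ V b :=
      ⟨⟨genericPoint_mem (hW a), genericPoint_mem_regLocus f⟩,
        ⟨genericPoint_mem (hW b), genericPoint_mem_regLocus f⟩⟩
    refine germ_injective_of_isIntegral X (genericPoint X) hm ?_
    change X.presheaf.germ _ _ hm (X.presheaf.map _ (X.presheaf.map _ (s a))) =
      X.presheaf.germ _ _ hm (X.presheaf.map _ (X.presheaf.map _ (s b)))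
    rw [TopCat.Presheaf.germ_res_apply', TopCat.Presheaf.germ_res_apply',
      TopCat.Presheaf.germ_res_apply', TopCat.Presheaf.germ_res_apply', hs, hs]
  obtain ⟨t, ht, -⟩ := TopCat.Sheaf.existsUnique_gluing' X.sheaf V (regLocus f)
    (fun x => homOfLE inf_le_right)
    (fun x hx => TopologicalSpace.Opens.mem_iSup.mpr ⟨⟨x, hx⟩, hW ⟨x, hx⟩, hx⟩) sf hcomp
  refine ⟨t, ?_⟩
  let a : regLocus f := ⟨genericPoint X, genericPoint_mem_regLocus f⟩
  have hm : genericPoint X ∈ V a := ⟨genericPoint_mem (hW a), genericPoint_mem_regLocus f⟩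
  have := congrArg (X.presheaf.germ (V a) (genericPoint X) hm) (ht a)
  change X.presheaf.germ (V a) (genericPoint X) hm
      (X.presheaf.map (homOfLE inf_le_right : V a ⟶ regLocus f).op t) =
    X.presheaf.germ (V a) (genericPoint X) hm
      (X.presheaf.map (homOfLE inf_le_left : V a ⟶ W a).op (s a)) at this
  erw [TopCat.Presheaf.germ_res_apply, TopCat.Presheaf.germ_res_apply, hs] at this
  exact this

/-- The rational function as a section over its locus of regularity. -/
noncomputable def regSection (f : X.functionField) : Γ(X, regLocus f) := (exists_regSection f).choose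

lemma germ_regSection (f : X.functionField) :
    X.presheaf.germ (regLocus f) (genericPoint X) (genericPoint_mem_regLocus f) (regSection f) = f :=
  (exists_regSection f).choose_spec

lemma regLocus_sup_inv (hv : ∀ x : X, ValuationRing (X.presheaf.stalk x)) (f : X.functionField) :
    regLocus f ⊔ regLocus f⁻¹ = ⊤ := by
  refine eq_top_iff.mpr fun x _ => ?_
  haveI := hv x
  rcases ValuationRing.isInteger_or_isInteger (X.presheaf.stalk x) f with h | h
  · exact Or.inl h
  · exact Or.inr h

lemma regLocus_inf_inv {f : X.functionField} (hf : f ≠ 0) :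
    regLocus f ⊓ regLocus f⁻¹ = X.basicOpen (regSection f) := by
  ext x
  constructor
  · rintro ⟨hx, z, hz⟩
    change x ∈ X.basicOpen _
    rw [Scheme.mem_basicOpen _ _ x hx]
    refine IsUnit.of_mul_eq_one z (IsFractionRing.injective (X.presheaf.stalk x) X.functionField ?_)
    rw [map_mul, map_one, algebraMap_germ x hx, germ_regSection, hz, mul_inv_cancel₀ hf]
  · intro hx
    have hxU : x ∈ regLocus f := X.basicOpen_le _ hx
    refine ⟨hxU, ?_⟩
    obtain ⟨w, hw⟩ := (Scheme.mem_basicOpen _ _ x hxU).mp hx
    refine ⟨((w⁻¹ : (X.presheaf.stalk x)ˣ) : X.presheaf.stalk x), ?_⟩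
    rw [map_units_inv, hw, algebraMap_germ x hxU, germ_regSection]

variable (k : Type u) [Field k] [X.Over (Spec (CommRingCat.of k))]

/-- The map from the base field to sections over an open. -/
noncomputable def kMap (W : X.Opens) : k →+* Γ(X, W) :=
  (X.presheaf.map (homOfLE le_top).op).hom.comp (Coh.toGlobal (X ↘ Spec (CommRingCat.of k)))

/-- The map from the base field to the function field. -/
noncomputable def kFun : k →+* X.functionField :=
  (X.presheaf.germ ⊤ (genericPoint X) trivial).hom.comp (Coh.toGlobal (X ↘ Spec (CommRingCat.of k)))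

lemma germ_kMap (W : X.Opens) (hW : genericPoint X ∈ W) (c : k) :
    X.presheaf.germ W (genericPoint X) hW (kMap k W c) = kFun (X := X) k c := by
  change X.presheaf.germ W _ hW (X.presheaf.map _ _) = _
  rw [TopCat.Presheaf.germ_res_apply']; rfl

/-- Polynomials in `f` as sections over the locus of regularity. -/
noncomputable def polyMap (f : X.functionField) :
    CommRingCat.of (Polynomial k) ⟶ Γ(X, regLocus f) :=
  CommRingCat.ofHom (Polynomial.eval₂RingHom (kMap k (regLocus f)) (regSection f))

/-- The map from the locus of regularity to the affine line. -/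
noncomputable def toLine (f : X.functionField) :
    (regLocus f : Scheme.{u}) ⟶ Spec (CommRingCat.of (Polynomial k)) :=
  (regLocus f).toSpecΓ ≫ Spec.map (polyMap k f)

lemma toLine_comp (f : X.functionField) :
    toLine k f ≫ Spec.map (CommRingCat.ofHom Polynomial.C) =
      (regLocus f).ι ≫ (X ↘ Spec (CommRingCat.of k)) := by
  have h : CommRingCat.ofHom Polynomial.C ≫ polyMap k f =
      ((Scheme.ΓSpecIso (CommRingCat.of k)).inv ≫ (X ↘ Spec (CommRingCat.of k)).appTop) ≫
        X.presheaf.map (homOfLE le_top).op := by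
    ext c
    change Polynomial.eval₂ _ _ (Polynomial.C c) = _
    rw [Polynomial.eval₂_C]; rfl
  rw [toLine, Category.assoc, ← Spec.map_comp, h, Spec.map_comp, Spec.map_comp,
    Scheme.Opens.toSpecΓ_SpecMap_presheaf_map_top_assoc, ← Scheme.toSpecΓ_naturality_assoc,
    toSpecΓ_SpecMap_ΓSpecIso_inv, Category.comp_id]

lemma toLine_appTop (f : X.functionField) (p : Polynomial k) :
    (toLine k f).appTop ((Scheme.ΓSpecIso (CommRingCat.of (Polynomial k))).inv p) =
      (regLocus f).topIso.inv (polyMap k f p) := by
  rw [← ConcreteCategory.comp_apply, ← ConcreteCategory.comp_apply]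
  congr 2
  simp [toLine, Scheme.Opens.toSpecΓ_appTop]

section Proper

variable [IsProper (X ↘ Spec (CommRingCat.of k))]

/-- the graph of `toLine` in `X × 𝔸¹` -/
noncomputable def lineGraph (f : X.functionField) :
    (regLocus f : Scheme.{u}) ⟶
      pullback (X ↘ Spec (CommRingCat.of k)) (Spec.map (CommRingCat.ofHom (Polynomial.C (R := k)))) :=
  pullback.lift (regLocus f).ι (toLine k f) (toLine_comp k f).symm

lemma closure_range_lineGraph (hv : ∀ x : X, ValuationRing (X.presheaf.stalk x))
    (f : X.functionField) (z)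
    (hz : z ∈ closure (Set.range (lineGraph k f))) :
    pullback.fst (X ↘ Spec (CommRingCat.of k)) (Spec.map (CommRingCat.ofHom Polynomial.C)) z ∈
      regLocus f := by
  set p := pullback.fst (X ↘ Spec (CommRingCat.of k)) (Spec.map (CommRingCat.ofHom Polynomial.C))
  set q := pullback.snd (X ↘ Spec (CommRingCat.of k)) (Spec.map (CommRingCat.ofHom Polynomial.C))
  by_contra hx
  have hf0 : f ≠ 0 := fun h => hx ⟨0, by rw [h, map_zero]⟩
  have hinv : IsReg f⁻¹ (p z) := by
    have := (regLocus_sup_inv hv f).ge (Set.mem_univ (p z))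
    exact this.resolve_left hx
  obtain ⟨W, hW, s, hs⟩ := exists_germ_eq_of_isReg hinv
  have hnu : ¬ IsUnit (X.presheaf.germ W (p z) hW s) := by
    rintro ⟨w, hw⟩
    refine hx ⟨((w⁻¹ : (X.presheaf.stalk (p z))ˣ) : X.presheaf.stalk (p z)), ?_⟩
    rw [map_units_inv, hw, algebraMap_germ _ hW, hs, inv_inv]
  let T : Γ(Spec (CommRingCat.of (Polynomial k)), ⊤) :=
    (Scheme.ΓSpecIso (CommRingCat.of (Polynomial k))).inv Polynomial.X
  let PB := pullback (X ↘ Spec (CommRingCat.of k))
    (Spec.map (CommRingCat.ofHom (Polynomial.C (R := k))))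
  let P : PB.Opens := p ⁻¹ᵁ W
  let h : Γ(PB, P) := p.app W s * q.appLE ⊤ P (by simp) T - 1
  have hzD : z ∈ PB.basicOpen h := by
    rw [Scheme.mem_basicOpen _ _ z (show z ∈ P from hW), map_sub, map_one, map_mul]
    set a := (pullback (X ↘ Spec (CommRingCat.of k))
      (Spec.map (CommRingCat.ofHom (Polynomial.C (R := k))))).presheaf.germ P z hW (p.app W s)
    have ha : a ∈ IsLocalRing.maximalIdeal _ := by
      change ¬ IsUnit a
      intro hu
      apply hnu
      have hmap : a = p.stalkMap z (X.presheaf.germ W (p z) hW s) :=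
        (Scheme.Hom.germ_stalkMap_apply p W z hW s).symm
      rw [hmap] at hu
      exact isUnit_of_map_unit (p.stalkMap z).hom _ hu
    rw [← IsUnit.neg_iff, neg_sub]
    exact IsLocalRing.isUnit_one_sub_self_of_mem_nonunits _ (Ideal.mul_mem_right _ _ ha)
  obtain ⟨_, hyD, y, rfl⟩ := mem_closure_iff.mp hz _ (PB.basicOpen h).2 hzD
  have hy : y ∈ (lineGraph k f) ⁻¹ᵁ PB.basicOpen h := hyD
  rw [Scheme.preimage_basicOpen] at hy
  have hzero : (lineGraph k f).app P h = 0 := by
    have hyP : y ∈ (lineGraph k f) ⁻¹ᵁ P := (regLocus f : Scheme.{u}).basicOpen_le _ hy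
    have he : (lineGraph k f) ⁻¹ᵁ P = (regLocus f).ι ⁻¹ᵁ W := by
      rw [← Scheme.Hom.comp_preimage, lineGraph, pullback.lift_fst]
    haveI : IsIntegral (regLocus f : Scheme.{u}) := by
      haveI : Nonempty (regLocus f) := ⟨⟨_, genericPoint_mem_regLocus f⟩⟩
      infer_instance
    -- compare germs at the generic point
    let η : (regLocus f : Scheme.{u}) := ⟨genericPoint X, genericPoint_mem_regLocus f⟩
    have hηP : η ∈ (lineGraph k f) ⁻¹ᵁ P := he.ge (show (regLocus f).ι η ∈ W from genericPoint_mem hW)
    refine germ_injective_of_isIntegral (regLocus f : Scheme.{u}) η hηP ?_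
    let e := (asIso ((regLocus f).ι.stalkMap η)).commRingCatIsoToRingEquiv
    apply e.symm.injective
    rw [map_zero, map_zero, map_sub, map_mul, map_one, map_sub, map_mul, map_one, map_sub, map_mul,
      map_one, sub_eq_zero]
    have key : ∀ (φ : (regLocus f : Scheme.{u}) ⟶ X) (_ : φ = (regLocus f).ι) (O : X.Opens)
        (hO : φ η ∈ O) (hO' : genericPoint X ∈ O) (a : Γ(X, O)),
        (regLocus f : Scheme.{u}).presheaf.germ (φ ⁻¹ᵁ O) η hO (φ.app O a) =
          e (X.presheaf.germ O (genericPoint X) hO' a) := by
      rintro _ rfl O hO hO' a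
      exact (Scheme.Hom.germ_stalkMap_apply _ O η hO a).symm
    have e1 : e.symm ((regLocus f : Scheme.{u}).presheaf.germ _ η hηP
        ((lineGraph k f).app P (p.app W s))) = f⁻¹ := by
      refine (RingEquiv.symm_apply_eq _).mpr ?_
      refine Eq.trans ?_ (congrArg e hs)
      exact key (lineGraph k f ≫ p) (pullback.lift_fst _ _ _) W hηP _ s
    have e2 : e.symm ((regLocus f : Scheme.{u}).presheaf.germ _ η hηP
        ((lineGraph k f).app P (q.appLE ⊤ P (by simp) T))) = f := by
      refine (RingEquiv.symm_apply_eq _).mpr ?_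
      refine Eq.trans ?_ (congrArg e (germ_regSection f))
      have h3 : (regLocus f : Scheme.{u}).presheaf.germ _ η hηP
          ((lineGraph k f).app P (q.appLE ⊤ P (by simp) T)) =
          (regLocus f : Scheme.{u}).presheaf.germ ⊤ η trivial ((lineGraph k f ≫ q).appTop T) := by
        have l1 := Scheme.Hom.germ_stalkMap_apply (lineGraph k f) P η hηP (q.appLE ⊤ P (by simp) T)
        have l2 := Scheme.Hom.germ_stalkMap_apply (lineGraph k f) (q ⁻¹ᵁ ⊤) η trivial (q.app ⊤ T)
        refine l1.symm.trans (Eq.trans ?_ l2)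
        congr 1
        change PB.presheaf.germ P _ hηP (PB.presheaf.map (homOfLE _).op (q.app ⊤ T)) = _
        exact TopCat.Presheaf.germ_res_apply PB.presheaf _ _ _ _
      rw [h3]
      have h4 : ∀ (g : (regLocus f : Scheme.{u}) ⟶ Spec (CommRingCat.of (Polynomial k)))
          (_ : g = toLine k f), g.appTop T = (toLine k f).appTop T := by rintro _ rfl; rfl
      rw [h4 (lineGraph k f ≫ q) (pullback.lift_snd _ _ _), toLine_appTop]
      refine (germ_topIso_inv (regLocus f) η _).trans (congrArg _ (congrArg _ ?_))
      change Polynomial.eval₂ (kMap k (regLocus f)) (regSection f) Polynomial.X = regSection f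
      rw [Polynomial.eval₂_X]
    rw [e1, e2]
    exact inv_mul_cancel₀ hf0
  rw [hzero, Scheme.basicOpen_zero] at hy
  exact hy

theorem isProper_toLine (hv : ∀ x : X, ValuationRing (X.presheaf.stalk x)) (f : X.functionField) :
    IsProper (toLine k f) := by
  have hfac : lineGraph k f ≫ pullback.snd (X ↘ Spec (CommRingCat.of k))
      (Spec.map (CommRingCat.ofHom Polynomial.C)) = toLine k f :=
    pullback.lift_snd _ _ _
  let p := pullback.fst (X ↘ Spec (CommRingCat.of k))
    (Spec.map (CommRingCat.ofHom (Polynomial.C (R := k))))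
  have hp : lineGraph k f ≫ p = (regLocus f).ι := pullback.lift_fst _ _ _
  haveI : IsImmersion (lineGraph k f ≫ p) := hp ▸ inferInstance
  haveI : IsImmersion (lineGraph k f) := IsImmersion.of_comp _ p
  have hrange : IsClosed (Set.range (lineGraph k f)) := by
    let V := p ⁻¹ᵁ regLocus f
    have hle : Set.range (lineGraph k f) ⊆ V := by
      rintro _ ⟨y, rfl⟩
      change p (lineGraph k f y) ∈ regLocus f
      rw [← Scheme.Hom.comp_apply, hp]
      exact y.2
    let g := IsOpenImmersion.lift V.ι (lineGraph k f) (by simpa using hle)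
    have hg : g ≫ V.ι = lineGraph k f := IsOpenImmersion.lift_fac _ _ _
    have hid : g ≫ (p ∣_ regLocus f) = 𝟙 _ := by
      rw [← cancel_mono (regLocus f).ι, Category.assoc, morphismRestrict_ι, ← Category.assoc, hg,
        hp, Category.id_comp]
    haveI : IsClosedImmersion (g ≫ (p ∣_ regLocus f)) := hid ▸ inferInstance
    haveI : IsClosedImmersion g := IsClosedImmersion.of_comp g (p ∣_ regLocus f)
    refine closure_subset_iff_isClosed.mp fun z hz => ?_
    have hzV : z ∈ V := closure_range_lineGraph k hv f z hz
    have : (⟨z, hzV⟩ : V) ∈ closure (Set.range g) := by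
      refine (closure_subtype (p := fun w => w ∈ V)).mpr ?_
      convert hz using 2
      rw [← hg]
      ext w
      constructor
      · rintro ⟨_, ⟨y, rfl⟩, rfl⟩; exact ⟨y, rfl⟩
      · rintro ⟨y, rfl⟩; exact ⟨g y, ⟨y, rfl⟩, rfl⟩
    rw [g.isClosedEmbedding.isClosed_range.closure_eq] at this
    obtain ⟨y, hy⟩ := this
    exact ⟨y, by rw [← hg, Scheme.Hom.comp_apply, hy]; rfl⟩
  haveI : IsClosedImmersion (lineGraph k f) := .of_isPreimmersion _ hrange
  rw [← hfac]
  infer_instance

/-- `f` satisfies no polynomial relation over `k`. -/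
def IsTransc (f : X.functionField) : Prop :=
  ∀ p : Polynomial k, Polynomial.eval₂ (kFun k) f p = 0 → p = 0

lemma germ_polyMap (f : X.functionField) (p : Polynomial k) :
    X.presheaf.germ (regLocus f) (genericPoint X) (genericPoint_mem_regLocus f) (polyMap k f p) =
      Polynomial.eval₂ (kFun k) f p := by
  change (X.presheaf.germ _ _ _).hom (Polynomial.eval₂ _ _ p) = _
  rw [Polynomial.hom_eval₂]
  have h1 : (X.presheaf.germ (regLocus f) (genericPoint X) (genericPoint_mem_regLocus f)).hom.comp
      (kMap k (regLocus f)) = kFun k :=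
    RingHom.ext fun c => germ_kMap k _ _ c
  rw [h1]
  exact congrArg (fun z => Polynomial.eval₂ (kFun k) z p) (germ_regSection f)

theorem isFinite_toLine (hv : ∀ x : X, ValuationRing (X.presheaf.stalk x))
    (hdim : topologicalKrullDim X = 1) (f : X.functionField) (hf : IsTransc k f) :
    IsFinite (toLine k f) := by
  haveI := isProper_toLine k hv f
  haveI : CompactSpace X := QuasiCompact.compactSpace_of_compactSpace (X ↘ Spec (CommRingCat.of k))
  let η : (regLocus f : Scheme.{u}) := ⟨genericPoint X, genericPoint_mem_regLocus f⟩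
  have hbot : (toLine k f η).asIdeal = ⊥ := by
    refine eq_bot_iff.mpr fun p hp => ?_
    refine Submodule.mem_bot _ |>.mpr (hf p ?_)
    have h1 : η ∉ (toLine k f) ⁻¹ᵁ PrimeSpectrum.basicOpen (R := Polynomial k) p :=
      fun h => h hp
    rw [← basicOpen_eq_of_affine (R := CommRingCat.of (Polynomial k)), Scheme.preimage_basicOpen,
      Scheme.mem_basicOpen _ _ η (show η ∈ (toLine k f) ⁻¹ᵁ ⊤ from trivial)] at h1
    erw [toLine_appTop] at h1
    rw [← germ_polyMap k f p]
    by_contra hne
    apply h1
    have hu : IsUnit (X.presheaf.germ (regLocus f) (genericPoint X)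
        (genericPoint_mem_regLocus f) (polyMap k f p)) := isUnit_iff_ne_zero.mpr hne
    have h3 := hu.map ((regLocus f).ι.stalkMap η).hom
    erw [← germ_topIso_inv (regLocus f) η] at h3
    exact h3
  refine @IsFinite.of_isProper_of_locallyQuasiFinite _ _ _ _ ?_
  rw [locallyQuasiFinite_iff_finite_preimage_singleton]
  intro P
  have hfin : ∀ Z : Set (regLocus f : Scheme.{u}), IsClosed Z → η ∉ Z → Z.Finite := by
    intro Z hZ hηZ
    have h1 : (closure ((regLocus f).ι '' Z)).Finite := by
      refine VarDim.finite_of_isClosed k hdim isClosed_closure fun hmem => hηZ ?_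
      have h2 : η ∈ closure Z := by
        exact (closure_subtype (p := fun w => w ∈ regLocus f)).mpr hmem
      rwa [hZ.closure_eq] at h2
    exact Set.Finite.of_finite_image (h1.subset subset_closure) Subtype.val_injective.injOn
  by_cases hP : P.asIdeal = ⊥
  · refine (Set.finite_singleton η).subset fun y hy => ?_
    by_contra hne
    have hcl : IsClosed ({y} : Set (regLocus f : Scheme.{u})) := by
      have hX : IsClosed ({y.1} : Set X) :=
        VarDim.isClosed_singleton_of_ne_genericPoint k hdim fun h => hne (Subtype.ext h)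
      have := hX.preimage (f := Subtype.val (p := (· ∈ regLocus f))) continuous_subtype_val
      have he : ({y} : Set (regLocus f : Scheme.{u})) = Subtype.val ⁻¹' {y.1} := by
        ext w; exact ⟨fun h => congrArg Subtype.val h, fun h => Subtype.ext h⟩
      rw [he]; exact this
    have h2 := (toLine k f).isClosedMap _ hcl
    rw [Set.image_singleton, show toLine k f y = P from hy] at h2
    replace h2 := (PrimeSpectrum.isClosed_singleton_iff_isMaximal P).mp h2
    rw [hP] at h2
    exact Polynomial.not_isField k (Ring.isField_iff_maximal_bot.mpr h2)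
  · haveI : P.asIdeal.IsMaximal := P.isPrime.isMaximal hP
    refine hfin _ ((PrimeSpectrum.isClosed_singleton_iff_isMaximal P).mpr inferInstance |>.preimage
      (toLine k f).continuous) fun h => hP ?_
    rw [← show toLine k f η = P from h, hbot]

theorem isAffineOpen_regLocus (hv : ∀ x : X, ValuationRing (X.presheaf.stalk x))
    (hdim : topologicalKrullDim X = 1) (f : X.functionField) (hf : IsTransc k f) :
    IsAffineOpen (regLocus f) := by
  haveI := isFinite_toLine k hv hdim f hf
  haveI : IsAffine (regLocus f : Scheme.{u}) := isAffine_of_isAffineHom (toLine k f)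
  exact ‹_›

theorem finite_polyMap (hv : ∀ x : X, ValuationRing (X.presheaf.stalk x))
    (hdim : topologicalKrullDim X = 1) (f : X.functionField) (hf : IsTransc k f) :
    (polyMap k f).hom.Finite := by
  haveI := isFinite_toLine k hv hdim f hf
  have h := (toLine k f).finite_app ⊤ (isAffineOpen_top _)
  have he : polyMap k f = (Scheme.ΓSpecIso (CommRingCat.of (Polynomial k))).inv ≫
      ((toLine k f).appTop ≫ (regLocus f).topIso.hom) := by
    refine CommRingCat.hom_ext (RingHom.ext fun p => ?_)
    change polyMap k f p = (regLocus f).topIso.hom ((toLine k f).appTop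
      ((Scheme.ΓSpecIso (CommRingCat.of (Polynomial k))).inv p))
    rw [toLine_appTop, ← ConcreteCategory.comp_apply, Iso.inv_hom_id]
    rfl
  rw [he]
  exact (((RingHom.Finite.of_surjective _ ((regLocus f).topIso.commRingCatIsoToRingEquiv.surjective)).comp h).comp
    (RingHom.Finite.of_surjective _
      ((Scheme.ΓSpecIso (CommRingCat.of (Polynomial k))).symm.commRingCatIsoToRingEquiv.surjective)))

end Proper

end Groth.Agent.CurveCoh
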