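import Groth.Agent.CohAff.CechH
import Groth.Agent.CohAff.AffineCech
import Mathlib.Tactic.FinCases
import Mathlib.Tactic.Linarith

/-!
# Degree one Čech cocycles of a covering by two opens
-/

universe u

open CategoryTheory AlgebraicGeometry
open Groth.Agent.CohAff (mres mres_smul rres)

set_option linter.style.haveILetI false

namespace Groth.Agent.CurveCoh

variable {X : Scheme.{u}} (M : X.Modules) {A B : X.Opens}

/-- The index type of the two-member covering. -/
abbrev Two : Type u := ULift.{u} (Fin 2)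

/-- The two-member covering. -/
noncomputable def twoCover (A B : X.Opens) (i : Two.{u}) : X.Opens :=
  ![A, B] i.down

lemma inter_le_overlap {n : ℕ} (x : Fin n → Two.{u}) (a b : Fin n) (h : x a ≠ x b) :
    CohAff.inter (twoCover A B) x ≤ A ⊓ B := by
  have key : ∀ i, (x a = i ∨ x b = i) → CohAff.inter (twoCover A B) x ≤ twoCover A B i := by
    rintro i (rfl | rfl)
    · exact CohAff.inter_le _ x a
    · exact CohAff.inter_le _ x b
  have hcases : ∀ i : Two.{u}, x a = i ∨ x b = i := by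
    revert h
    generalize x a = p
    generalize x b = q
    intro h i
    obtain ⟨p⟩ := p; obtain ⟨q⟩ := q; obtain ⟨i⟩ := i
    fin_cases p <;> fin_cases q <;> fin_cases i <;> simp_all
  exact le_inf (key ⟨0⟩ (hcases _)) (key ⟨1⟩ (hcases _))

/-- The sign attached to a pair of indices. -/
def pairSign (x : Fin 2 → Two.{u}) : ℤ := ((x 1).down.val : ℤ) - ((x 0).down.val : ℤ)

open Classical in
/-- The Čech cocycle of a section over the overlap. -/
noncomputable def cocycleOf (n : Γ(M, A ⊓ B)) :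
    CohAff.Cochain (X := X.toPresheafedSpace.carrier) M.presheaf (twoCover A B) 1 :=
  fun x => if h : CohAff.inter (twoCover A B) x ≤ A ⊓ B then pairSign x • mres M h n else 0

lemma res_cocycleOf (n : Γ(M, A ⊓ B)) (x : Fin 2 → Two.{u}) {V : X.Opens}
    (h : V ≤ CohAff.inter (twoCover A B) x) (hV : V ≤ A ⊓ B) :
    mres M h (cocycleOf M n x) = pairSign x • mres M hV n := by
  by_cases hx : CohAff.inter (twoCover A B) x ≤ A ⊓ B
  · rw [cocycleOf, dif_pos hx]
    refine (map_zsmul (mres M h) _ _).trans ?_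
    congr 1
    exact CohAff.res_res _ _ _ _
  · rw [cocycleOf, dif_neg hx]
    have : x 0 = x 1 := by_contra fun h01 => hx (inter_le_overlap x 0 1 h01)
    rw [pairSign, this, sub_self, zero_smul]
    exact map_zero _

lemma cocycleOf_const (n : Γ(M, A ⊓ B)) (x : Fin 2 → Two.{u}) (h : x 0 = x 1) :
    cocycleOf M n x = 0 := by
  unfold cocycleOf
  split
  · rw [pairSign, h, sub_self, zero_smul]
  · rfl

lemma cd_cocycleOf (n : Γ(M, A ⊓ B)) :
    CohAff.cd (X := X.toPresheafedSpace.carrier) M.presheaf (twoCover A B) 1 (cocycleOf M n) = 0 := by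
  funext x
  refine (CohAff.cd_apply (X := X.toPresheafedSpace.carrier) _ _ _ _ x).trans ?_
  rw [Fin.sum_univ_three]
  by_cases hx : x 0 = x 1 ∧ x 1 = x 2
  · have hc : ∀ j : Fin 3, cocycleOf M n (x ∘ j.succAbove) = 0 := by
      intro j
      refine cocycleOf_const M n _ ?_
      obtain ⟨h1, h2⟩ := hx
      have h' : ∀ a, x a = x 0 := by intro a; fin_cases a <;> simp [h1, h2]
      exact (h' _).trans (h' _).symm
    rw [hc 0, hc 1, hc 2]
    simp
    exact map_zero _
  · have hle : CohAff.inter (twoCover A B) x ≤ A ⊓ B := by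
      rcases not_and_or.mp hx with h | h
      · exact inter_le_overlap x 0 1 h
      · exact inter_le_overlap x 1 2 h
    have e := fun j : Fin 3 => res_cocycleOf M n (x ∘ j.succAbove)
      (CohAff.inter_comp_le (twoCover A B) x j.succAbove) hle
    simp only [mres] at e
    rw [e 0, e 1, e 2]
    simp only [smul_smul, ← add_smul]
    have : pairSign (x ∘ (0 : Fin 3).succAbove) - pairSign (x ∘ (1 : Fin 3).succAbove) +
        pairSign (x ∘ (2 : Fin 3).succAbove) = 0 := by
      simp [pairSign, Fin.succAbove]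
    simp only [Fin.val_zero, Fin.val_one, Fin.val_two, pow_zero, pow_one, neg_one_sq, one_mul,
      neg_one_mul]
    rw [← sub_eq_add_neg, this, zero_smul]
    rfl

/-- Evaluation of a one-cochain at the ordered pair of the two opens. -/
noncomputable def eval01 (c : CohAff.Cochain (X := X.toPresheafedSpace.carrier) M.presheaf (twoCover A B) 1) :
    Γ(M, A ⊓ B) :=
  mres M (CohAff.le_inter (U := twoCover A B) (x := ![⟨0⟩, ⟨1⟩]) fun a => by
    fin_cases a
    · exact inf_le_left
    · exact inf_le_right) (c ![⟨0⟩, ⟨1⟩])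

lemma eval01_cocycleOf (n : Γ(M, A ⊓ B)) : eval01 M (cocycleOf M n) = n := by
  rw [eval01, res_cocycleOf M n _ _ le_rfl]
  simp [pairSign]

/-- A cocycle is determined by its value on the ordered pair. -/
lemma eq_cocycleOf (c : CohAff.Cochain (X := X.toPresheafedSpace.carrier) M.presheaf (twoCover A B) 1)
    (hc : CohAff.cd (X := X.toPresheafedSpace.carrier) M.presheaf (twoCover A B) 1 c = 0) :
    c = cocycleOf M (eval01 M c) := by
  have hrel : ∀ (i j l : Two.{u}) (V : X.Opens) (h : V ≤ CohAff.inter (twoCover A B) ![i, j, l]),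
      mres M (h.trans (CohAff.inter_comp_le _ _ (0 : Fin 3).succAbove)) (c (![i, j, l] ∘ (0 : Fin 3).succAbove)) -
      mres M (h.trans (CohAff.inter_comp_le _ _ (1 : Fin 3).succAbove)) (c (![i, j, l] ∘ (1 : Fin 3).succAbove)) +
      mres M (h.trans (CohAff.inter_comp_le _ _ (2 : Fin 3).succAbove)) (c (![i, j, l] ∘ (2 : Fin 3).succAbove)) = 0 := by
    intro i j l V h
    have h0 := congrArg (mres M h) (congrFun hc ![i, j, l])
    rw [CohAff.cd_apply (X := X.toPresheafedSpace.carrier), Fin.sum_univ_three] at h0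
    simp only [Pi.zero_apply, map_zero, map_add, map_neg, map_zsmul, mres, CohAff.res_res, Fin.val_zero,
      Fin.val_one, Fin.val_two, pow_zero, pow_one, one_smul, neg_one_smul, neg_one_sq] at h0
    rw [← sub_eq_add_neg] at h0
    exact h0
  have hcongr : ∀ (y z : Fin 2 → Two.{u}) (h : y = z) (V : X.Opens)
      (hy : V ≤ CohAff.inter (twoCover A B) y),
      mres M hy (c y) = mres M (h ▸ hy) (c z) := by rintro y z rfl V hy; rfl
  have hdiag : ∀ i : Two.{u}, c ![i, i] = 0 := by
    intro i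
    have hle : CohAff.inter (twoCover A B) ![i, i] ≤ CohAff.inter (twoCover A B) ![i, i, i] :=
      CohAff.le_inter fun a => by
        fin_cases a <;> exact CohAff.inter_le _ ![i, i] 0
    have h0 := hrel i i i _ hle
    have e : ∀ j : Fin 3, ![i, i, i] ∘ j.succAbove = ![i, i] := by
      intro j; funext a; fin_cases j <;> fin_cases a <;> rfl
    rw [hcongr _ _ (e 0), hcongr _ _ (e 1), hcongr _ _ (e 2)] at h0
    simpa [mres, CohAff.res_self] using h0
  funext x
  obtain ⟨i, j, rfl⟩ : ∃ i j, x = ![i, j] := ⟨x 0, x 1, funext fun a => by fin_cases a <;> rfl⟩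
  by_cases hij : i = j
  · subst hij
    rw [hdiag]
    exact (cocycleOf_const M _ _ rfl).symm
  have hle : CohAff.inter (twoCover A B) ![i, j] ≤ A ⊓ B := inter_le_overlap _ 0 1 hij
  rw [cocycleOf, dif_pos hle, eval01]
  simp only [mres, CohAff.res_res]
  obtain ⟨i⟩ := i; obtain ⟨j⟩ := j
  fin_cases i <;> fin_cases j
  · exact absurd rfl hij
  · simp [pairSign]
  · have hle3 : CohAff.inter (twoCover A B) ![(⟨1⟩ : Two.{u}), ⟨0⟩] ≤
        CohAff.inter (twoCover A B) ![(⟨1⟩ : Two.{u}), ⟨0⟩, ⟨1⟩] :=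
      CohAff.le_inter fun a => by
        fin_cases a
        · exact CohAff.inter_le _ ![(⟨1⟩ : Two.{u}), ⟨0⟩] 0
        · exact CohAff.inter_le _ ![(⟨1⟩ : Two.{u}), ⟨0⟩] 1
        · exact CohAff.inter_le _ ![(⟨1⟩ : Two.{u}), ⟨0⟩] 0
    have h0 := hrel ⟨1⟩ ⟨0⟩ ⟨1⟩ _ hle3
    have e0 : (![(⟨1⟩ : Two.{u}), ⟨0⟩, ⟨1⟩] ∘ (0 : Fin 3).succAbove) = ![⟨0⟩, ⟨1⟩] := by
      funext a; fin_cases a <;> rfl
    have e1 : (![(⟨1⟩ : Two.{u}), ⟨0⟩, ⟨1⟩] ∘ (1 : Fin 3).succAbove) = ![⟨1⟩, ⟨1⟩] := by
      funext a; fin_cases a <;> rfl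
    have e2 : (![(⟨1⟩ : Two.{u}), ⟨0⟩, ⟨1⟩] ∘ (2 : Fin 3).succAbove) = ![⟨1⟩, ⟨0⟩] := by
      funext a; fin_cases a <;> rfl
    rw [hcongr _ _ e0, hcongr _ _ e1, hcongr _ _ e2, hdiag, map_zero, sub_zero,
      add_eq_zero_iff_neg_eq] at h0
    simp only [mres, CohAff.res_self] at h0
    simp [pairSign, ← h0]
  · exact absurd rfl hij

/-- The additive map from sections over the overlap to `H¹`. -/
noncomputable def toH1 (hU : ⨆ i, twoCover A B i = ⊤) : Γ(M, A ⊓ B) →+ Coh.HH X M 1 :=
  AddMonoidHom.mk' (fun n => CohAff.toH (X := X.toPresheafedSpace.carrier) hU 1 (Coh.toAb M)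
      (cocycleOf M n) (cd_cocycleOf M n))
    fun n n' => by
      have he : cocycleOf M (n + n') = cocycleOf M n + cocycleOf M n' := by
        funext x
        rw [Pi.add_apply]
        by_cases hx : CohAff.inter (twoCover A B) x ≤ A ⊓ B
        · simp only [cocycleOf, dif_pos hx, map_add, smul_add]
        · simp only [cocycleOf, dif_neg hx, add_zero]
      exact (CohAff.toH_congr hU he _ _).trans (CohAff.toH_add hU _ _ _ _ _)

lemma toH1_smulAb (hU : ⨆ i, twoCover A B i = ⊤) (r : Coh.Γtop X) (n : Γ(M, A ⊓ B)) :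
    toH1 M hU (rres X (le_top : A ⊓ B ≤ ⊤) r • n) = r • toH1 M hU n := by
  have he : cocycleOf M (rres X (le_top : A ⊓ B ≤ ⊤) r • n) =
      CohAff.cmap (X := X.toPresheafedSpace.carrier) (Coh.smulAb M r).hom (twoCover A B) 1
        (cocycleOf M n) := by
    funext x
    rw [CohAff.cmap_apply]
    change _ = rres X (le_top : CohAff.inter (twoCover A B) x ≤ ⊤) r • cocycleOf M n x
    by_cases hx : CohAff.inter (twoCover A B) x ≤ A ⊓ B
    · simp only [cocycleOf, dif_pos hx]
      rw [mres_smul, CohAff.rres_rres, smul_comm]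
    · simp only [cocycleOf, dif_neg hx, smul_zero]
  exact (CohAff.toH_congr hU he _ _).trans (CohAff.toH_map hU (Coh.smulAb M r) (cocycleOf M n) (cd_cocycleOf M n))

lemma toH1_eq_zero_left (hU : ⨆ i, twoCover A B i = ⊤) (m : Γ(M, A)) :
    toH1 M hU (mres M inf_le_left m) = 0 := by
  classical
  let t : CohAff.Cochain (X := X.toPresheafedSpace.carrier) M.presheaf (twoCover A B) 0 := fun x =>
    if h : CohAff.inter (twoCover A B) x ≤ A ∧ (x 0).down = 0 then -mres M h.1 m else 0
  have he : CohAff.cd (X := X.toPresheafedSpace.carrier) M.presheaf (twoCover A B) 0 t =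
      cocycleOf M (mres M inf_le_left m) := by
    refine (eq_cocycleOf M _ (CohAff.cd_cd _ _ _ _)).trans (congrArg _ ?_)
    rw [eval01]
    rw [CohAff.cd_zero_apply (X := X.toPresheafedSpace.carrier)]
    have hle : CohAff.inter (twoCover A B) (![(⟨0⟩ : Two.{u}), ⟨1⟩] ∘ (1 : Fin 2).succAbove) ≤ A :=
      (CohAff.inter_le _ _ 0).trans le_rfl
    have t0 : t (![(⟨0⟩ : Two.{u}), ⟨1⟩] ∘ (1 : Fin 2).succAbove) = -mres M hle m :=
      dif_pos ⟨hle, rfl⟩
    have t1 : t (![(⟨0⟩ : Two.{u}), ⟨1⟩] ∘ (0 : Fin 2).succAbove) = 0 :=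
      dif_neg fun h => absurd h.2 (show ¬ ((1 : Fin 2) = 0) by decide)
    rw [t0, t1]
    simp only [mres, map_sub]
    erw [map_zero, map_zero]
    simp [mres, CohAff.res_res]
  change CohAff.toH _ _ _ _ _ = _
  exact (CohAff.toH_congr hU he.symm _ (CohAff.cd_cd _ _ _ _)).trans
    (CohAff.toH_cd hU (Coh.toAb M) t)

lemma toH1_eq_zero_right (hU : ⨆ i, twoCover A B i = ⊤) (m : Γ(M, B)) :
    toH1 M hU (mres M inf_le_right m) = 0 := by
  classical
  let t : CohAff.Cochain (X := X.toPresheafedSpace.carrier) M.presheaf (twoCover A B) 0 := fun x =>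
    if h : CohAff.inter (twoCover A B) x ≤ B ∧ (x 0).down = 1 then mres M h.1 m else 0
  have he : CohAff.cd (X := X.toPresheafedSpace.carrier) M.presheaf (twoCover A B) 0 t =
      cocycleOf M (mres M inf_le_right m) := by
    refine (eq_cocycleOf M _ (CohAff.cd_cd _ _ _ _)).trans (congrArg _ ?_)
    rw [eval01]
    rw [CohAff.cd_zero_apply (X := X.toPresheafedSpace.carrier)]
    have hle : CohAff.inter (twoCover A B) (![(⟨0⟩ : Two.{u}), ⟨1⟩] ∘ (0 : Fin 2).succAbove) ≤ B :=
      (CohAff.inter_le _ _ 0).trans le_rfl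
    have t0 : t (![(⟨0⟩ : Two.{u}), ⟨1⟩] ∘ (1 : Fin 2).succAbove) = 0 :=
      dif_neg fun h => absurd h.2 (show ¬ ((0 : Fin 2) = 1) by decide)
    have t1 : t (![(⟨0⟩ : Two.{u}), ⟨1⟩] ∘ (0 : Fin 2).succAbove) = mres M hle m :=
      dif_pos ⟨hle, rfl⟩
    rw [t0, t1]
    simp only [mres, map_sub]
    erw [map_zero, map_zero, sub_zero, CohAff.res_res, CohAff.res_res]
  change CohAff.toH _ _ _ _ _ = _
  exact (CohAff.toH_congr hU he.symm _ (CohAff.cd_cd _ _ _ _)).trans
    (CohAff.toH_cd hU (Coh.toAb M) t)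

end Groth.Agent.CurveCoh
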