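import Groth.Agent.CurveCoh.Alg
import Groth.Agent.CurveCoh.Cover
import Groth.Agent.CurveCoh.TwoCover
import Groth.Agent.QCoh.FiniteType
import Groth.Agent.S0010
import Mathlib.Algebra.Polynomial.Reverse
import Mathlib.RingTheory.AlgebraicIndependent.Transcendental
import Mathlib.Algebra.Module.RingHom
import Mathlib.AlgebraicGeometry.Morphisms.Affine
import Mathlib.Tactic.FinCases

/-!
# Cohomology of coherent sheaves on a proper normal curve over a field

`H⁰` and `H¹` are finite-dimensional and the higher groups vanish.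
-/

universe u

open CategoryTheory AlgebraicGeometry Limits Polynomial
open Groth.Agent.CohAff (mres mres_smul rres exists_extend exists_pow_smul_eq_zero)

set_option linter.style.haveILetI false

namespace Groth.Agent.CurveCoh

variable (k : Type u) [Field k] {X : Scheme.{u}} [IsIntegral X] [X.Over (Spec (CommRingCat.of k))]

lemma exists_isTransc [LocallyOfFiniteType (X ↘ Spec (CommRingCat.of k))]
    (hdim : topologicalKrullDim X = 1) : ∃ f : X.functionField, IsTransc k f := by
  letI : Algebra k (X.residueField (genericPoint X)) := Curv2.resAlgebra k X (genericPoint X)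
  have h1 : Algebra.trdeg k (X.residueField (genericPoint X)) ≠ 0 := by
    intro h
    have := VarDim.dimPt_genericPoint_of_curve k hdim
    rw [VarDim.dimPt] at this
    simp [h] at this
  rw [Ne, trdeg_eq_zero_iff, Algebra.isAlgebraic_def] at h1
  push Not at h1
  obtain ⟨z, hz⟩ := h1
  obtain ⟨f, rfl⟩ := X.residue_surjective (genericPoint X) z
  refine ⟨f, fun p hp => by_contra fun hne => hz ⟨p, hne, ?_⟩⟩
  rw [Polynomial.aeval_def]
  have h2 := Polynomial.hom_eval₂ p (kFun (X := X) k) (X.residue (genericPoint X)).hom f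
  rw [hp, map_zero] at h2
  exact h2.symm

variable {k}

lemma IsTransc.ne_zero {f : X.functionField} (hf : IsTransc k f) : f ≠ 0 := fun h => by
  have := hf Polynomial.X (by rw [eval₂_X, h])
  exact Polynomial.X_ne_zero this

lemma IsTransc.inv {f : X.functionField} (hf : IsTransc k f) : IsTransc k f⁻¹ := by
  intro p hp
  haveI : Invertible f⁻¹ := invertibleOfNonzero (inv_ne_zero hf.ne_zero)
  have h := (Polynomial.eval₂_reverse_eq_zero_iff (kFun (X := X) k) f⁻¹ p).mpr hp
  rw [invOf_eq_inv, inv_inv] at h
  exact Polynomial.reverse_eq_zero.mp (hf _ h)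

variable (M : X.Modules) (k)

/-- Sections over an open as a vector space over the base field. -/
noncomputable abbrev secModule (W : X.Opens) : Module k Γ(M, W) :=
  Module.compHom Γ(M, W) (kMap (X := X) k W)

omit [IsIntegral X] in
lemma rres_kMap {V W : X.Opens} (h : W ≤ V) (c : k) : rres X h (kMap k V c) = kMap k W c := by
  change rres X h (rres X le_top _) = rres X le_top _
  rw [CohAff.rres_rres]

attribute [local instance] secModule

omit [IsIntegral X] in
lemma sec_smul_def (W : X.Opens) (c : k) (m : Γ(M, W)) : c • m = kMap k W c • m := rfl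

/-- Restriction as a linear map over the base field. -/
noncomputable def resK {V W : X.Opens} (h : W ≤ V) : Γ(M, V) →ₗ[k] Γ(M, W) where
  toFun := mres M h
  map_add' := map_add _
  map_smul' c m := by
    change mres M h (kMap k V c • m) = kMap k W c • mres M h m
    rw [mres_smul, rres_kMap]

omit [IsIntegral X] in
lemma resK_apply {V W : X.Opens} (h : W ≤ V) (m : Γ(M, V)) : resK k M h m = mres M h m := rfl

/-- Multiplication by a unit function as a linear equivalence. -/
noncomputable def mulUnit (W : X.Opens) (a b : Γ(X, W)) (hab : a * b = 1) :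
    Γ(M, W) ≃ₗ[k] Γ(M, W) where
  toFun n := a • n
  invFun n := b • n
  map_add' := smul_add a
  map_smul' c n := by
    change a • kMap k W c • n = kMap k W c • a • n
    rw [smul_smul, smul_smul, mul_comm]
  left_inv n := by
    change b • a • n = n
    rw [smul_smul, mul_comm, hab, one_smul]
  right_inv n := by
    change a • b • n = n
    rw [smul_smul, hab, one_smul]

omit [IsIntegral X] in
lemma mulUnit_pow (W : X.Opens) (a b : Γ(X, W)) (hab : a * b = 1) (i : ℕ) (n : Γ(M, W)) :
    ((mulUnit k M W a b hab) ^ (i : ℤ)) n = a ^ i • n := by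
  induction i with
  | zero => simp
  | succ i ih =>
    rw [Nat.cast_succ, add_comm, zpow_apply_add, zpow_one, ih, pow_succ', mul_smul]; rfl

omit [IsIntegral X] in
lemma mulUnit_pow_neg (W : X.Opens) (a b : Γ(X, W)) (hab : a * b = 1) (i : ℕ) (n : Γ(M, W)) :
    ((mulUnit k M W a b hab) ^ (-(i : ℤ))) n = b ^ i • n := by
  induction i with
  | zero => simp
  | succ i ih =>
    rw [Nat.cast_succ, neg_add, add_comm, zpow_apply_add, zpow_neg_one, ih, pow_succ', mul_smul]; rfl

omit [IsIntegral X] in
lemma exists_extend_of_eq [M.IsQuasicoherent] {V W : X.Opens} (hV : IsAffineOpen V) (g : Γ(X, V))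
    (hWV : W ≤ V) (hW : W = X.basicOpen g) (n : Γ(M, W)) :
    ∃ (a : ℕ) (m : Γ(M, V)), mres M hWV m = rres X hWV g ^ a • n := by
  subst hW; exact exists_extend M hV g n

omit [IsIntegral X] in
lemma exists_pow_smul_of_eq [M.IsQuasicoherent] {V W : X.Opens} (hV : IsAffineOpen V) (g : Γ(X, V))
    (hWV : W ≤ V) (hW : W = X.basicOpen g) (m : Γ(M, V)) (hm : mres M hWV m = 0) :
    ∃ a : ℕ, g ^ a • m = 0 := by
  subst hW; exact exists_pow_smul_eq_zero M hV g m hm

variable (f : X.functionField)

/-- The overlap of the two loci. -/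
noncomputable abbrev overlap : X.Opens := regLocus f ⊓ regLocus f⁻¹

/-- The polynomial module structure on sections over a locus of regularity. -/
noncomputable abbrev polyModule : Module k[X] Γ(M, regLocus f) :=
  Module.compHom Γ(M, regLocus f) (polyMap (X := X) k f).hom

attribute [local instance] polyModule

lemma X_smul (m : Γ(M, regLocus f)) : (Polynomial.X : k[X]) • m = regSection f • m := by
  change (polyMap k f).hom Polynomial.X • m = _
  congr 1
  exact Polynomial.eval₂_X _ _

lemma X_pow_smul (a : ℕ) (m : Γ(M, regLocus f)) :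
    (Polynomial.X ^ a : k[X]) • m = regSection f ^ a • m := by
  change (polyMap k f).hom (Polynomial.X ^ a) • m = _
  congr 1
  rw [map_pow]
  exact congrArg (· ^ a) (Polynomial.eval₂_X _ _)

lemma isScalarTower_poly : IsScalarTower k k[X] Γ(M, regLocus f) :=
  IsScalarTower.of_algebraMap_smul fun c m => by
    change (polyMap k f).hom (Polynomial.C c) • m = kMap k (regLocus f) c • m
    congr 1
    exact Polynomial.eval₂_C _ _

attribute [local instance] isScalarTower_poly

variable {f}

lemma rres_mul_eq_one {W : X.Opens} (h₁ : W ≤ regLocus f) (h₂ : W ≤ regLocus f⁻¹) (hW : genericPoint X ∈ W)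
    (hf : f ≠ 0) : rres X h₁ (regSection f) * rres X h₂ (regSection f⁻¹) = 1 := by
  refine germ_injective_of_isIntegral X (genericPoint X) hW ?_
  rw [map_mul, map_one]
  erw [TopCat.Presheaf.germ_res_apply X.presheaf (homOfLE h₁) _ hW,
    TopCat.Presheaf.germ_res_apply X.presheaf (homOfLE h₂) _ hW, germ_regSection, germ_regSection]
  exact mul_inv_cancel₀ hf

lemma genericPoint_mem_overlap (f : X.functionField) : genericPoint X ∈ overlap f :=
  ⟨genericPoint_mem_regLocus f, genericPoint_mem_regLocus f⁻¹⟩

variable {k}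

/-- Multiplication by `f` on the sections over the overlap. -/
noncomputable def shiftEquiv (hf : IsTransc k f) : Γ(M, overlap f) ≃ₗ[k] Γ(M, overlap f) :=
  mulUnit k M _ _ _ (rres_mul_eq_one inf_le_left inf_le_right (genericPoint_mem_overlap f) hf.ne_zero)

variable (hf : IsTransc k f)

lemma resK_X_smul_left (m : Γ(M, regLocus f)) :
    resK k M (inf_le_left : overlap f ≤ regLocus f) ((Polynomial.X : k[X]) • m) =
      shiftEquiv M hf (resK k M inf_le_left m) := by
  rw [X_smul, resK_apply, mres_smul]; rfl

lemma resK_X_smul_right (m : Γ(M, regLocus f⁻¹)) :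
    resK k M (inf_le_right : overlap f ≤ regLocus f⁻¹) ((Polynomial.X : k[X]) • m) =
      (shiftEquiv M hf).symm (resK k M inf_le_right m) := by
  rw [X_smul, resK_apply, mres_smul]; rfl

lemma overlap_eq_left (hf : IsTransc k f) : overlap f = X.basicOpen (regSection f) :=
  regLocus_inf_inv hf.ne_zero

lemma overlap_eq_right (hf : IsTransc k f) : overlap f = X.basicOpen (regSection f⁻¹) := by
  rw [← regLocus_inf_inv hf.inv.ne_zero, inv_inv, inf_comm]

section Coherent

variable [IsProper (X ↘ Spec (CommRingCat.of k))]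
  (hv : ∀ x : X, ValuationRing (X.presheaf.stalk x)) (hdim : topologicalKrullDim X = 1)

include hv hdim in
lemma exists_surj_left [M.IsQuasicoherent] (n : Γ(M, overlap f)) :
    ∃ (a : ℕ) (m : Γ(M, regLocus f)),
      resK k M (inf_le_left : overlap f ≤ regLocus f) m = (shiftEquiv M hf ^ (a : ℤ)) n := by
  obtain ⟨a, m, hm⟩ := exists_extend_of_eq M (isAffineOpen_regLocus k hv hdim f hf) (regSection f)
    inf_le_left (overlap_eq_left hf) n
  exact ⟨a, m, hm.trans (mulUnit_pow k M _ _ _ _ a n).symm⟩

include hv hdim in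
lemma exists_surj_right [M.IsQuasicoherent] (n : Γ(M, overlap f)) :
    ∃ (a : ℕ) (m : Γ(M, regLocus f⁻¹)),
      resK k M (inf_le_right : overlap f ≤ regLocus f⁻¹) m = (shiftEquiv M hf ^ (-(a : ℤ))) n := by
  obtain ⟨a, m, hm⟩ := exists_extend_of_eq M (isAffineOpen_regLocus k hv hdim f⁻¹ hf.inv)
    (regSection f⁻¹) inf_le_right (overlap_eq_right hf) n
  exact ⟨a, m, hm.trans (mulUnit_pow_neg k M _ _ _ _ a n).symm⟩

include hv hdim in
lemma finite_poly (hM : Coh.IsCoh M) (hf : IsTransc k f) :
    Module.Finite k[X] Γ(M, regLocus f) := by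
  haveI := hM.1
  haveI := hM.2
  haveI hfin : Module.Finite Γ(X, regLocus f) Γ(M, regLocus f) :=
    QCoh.finite_sections_of_isFiniteType M (isAffineOpen_regLocus k hv hdim f hf)
  letI : Algebra k[X] Γ(X, regLocus f) := (polyMap k f).hom.toAlgebra
  haveI : Module.Finite k[X] Γ(X, regLocus f) := finite_polyMap k hv hdim f hf
  haveI : IsScalarTower k[X] Γ(X, regLocus f) Γ(M, regLocus f) :=
    IsScalarTower.of_algebraMap_smul fun p m => rfl
  exact Module.Finite.trans Γ(X, regLocus f) Γ(M, regLocus f)

end Coherent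

lemma iSup_twoCover (hv : ∀ x : X, ValuationRing (X.presheaf.stalk x)) (f : X.functionField) :
    ⨆ i, twoCover (regLocus f) (regLocus f⁻¹) i = ⊤ := by
  rw [eq_top_iff, ← regLocus_sup_inv hv f]
  exact sup_le (le_iSup (twoCover (regLocus f) (regLocus f⁻¹)) ⟨0⟩) (le_iSup (twoCover (regLocus f) (regLocus f⁻¹)) ⟨1⟩)

section Coherent

variable [IsProper (X ↘ Spec (CommRingCat.of k))]

variable (k) in
include k in
omit [IsIntegral X] in
lemma isAffineOpen_inf {V W : X.Opens} (hV : IsAffineOpen V) (hW : IsAffineOpen W) :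
    IsAffineOpen (V ⊓ W) := by
  haveI : IsSeparated (terminal.from X) := by
    rw [show terminal.from X = (X ↘ Spec (CommRingCat.of k)) ≫ terminal.from _ from Subsingleton.elim _ _]
    infer_instance
  exact hV.inf hW

variable (hv : ∀ x : X, ValuationRing (X.presheaf.stalk x)) (hdim : topologicalKrullDim X = 1)
include hv hdim

lemma toH1_surjective [M.IsQuasicoherent] (hf : IsTransc k f) (hU : ⨆ i, twoCover (regLocus f) (regLocus f⁻¹) i = ⊤) :
    Function.Surjective (toH1 M hU) := by
  intro y
  have haff : ∀ i, IsAffineOpen (twoCover (regLocus f) (regLocus f⁻¹) i) := by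
    rintro ⟨i⟩
    fin_cases i
    · exact isAffineOpen_regLocus k hv hdim f hf
    · exact isAffineOpen_regLocus k hv hdim f⁻¹ hf.inv
  have hmem : ∀ {n : ℕ} (x : Fin (n + 1) → Two.{u}),
      (CohAff.affCov X).mem (CohAff.inter (twoCover (regLocus f) (regLocus f⁻¹)) x) := by
    intro n
    induction n with
    | zero =>
      intro x
      have : CohAff.inter (twoCover (regLocus f) (regLocus f⁻¹)) x = twoCover (regLocus f) (regLocus f⁻¹) (x 0) := by simp [CohAff.inter]
      change IsAffineOpen _
      rw [this]; exact haff _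
    | succ n ih =>
      intro x
      have : CohAff.inter (twoCover (regLocus f) (regLocus f⁻¹)) x = twoCover (regLocus f) (regLocus f⁻¹) (x 0) ⊓ CohAff.inter (twoCover (regLocus f) (regLocus f⁻¹)) (Fin.tail x) := by
        apply le_antisymm
        · exact le_inf (CohAff.inter_le _ x 0) (CohAff.le_inter fun a => CohAff.inter_le _ x a.succ)
        · refine CohAff.le_inter fun a => ?_
          cases a using Fin.cases with
          | zero => exact inf_le_left
          | succ a => exact inf_le_right.trans (CohAff.inter_le _ (Fin.tail x) a)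
      change IsAffineOpen _
      rw [this]
      exact isAffineOpen_inf k (haff _) (ih _)
  obtain ⟨c, hc, rfl⟩ := CohAff.exists_toH_eq hU hmem (CohAff.good_affCov M) y
  exact ⟨eval01 M c, CohAff.toH_congr hU (eq_cocycleOf M c hc).symm _ _⟩

/-- `H¹` of a coherent sheaf is finite-dimensional. -/
theorem finite_HH_one (hM : Coh.IsCoh M) : Module.Finite k (Coh.HH X M 1) := by
  obtain ⟨f, hf⟩ := exists_isTransc k hdim
  haveI := hM.1
  haveI := finite_poly M hv hdim hM hf
  haveI := finite_poly M hv hdim hM hf.inv
  have hU := iSup_twoCover hv f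
  haveI := finiteDimensional_coker (shiftEquiv M hf)
    (resK k M (inf_le_left : overlap f ≤ regLocus f))
    (resK k M (inf_le_right : overlap f ≤ regLocus f⁻¹))
    (resK_X_smul_left M hf) (resK_X_smul_right M hf)
    (exists_surj_left M hf hv hdim) (exists_surj_right M hf hv hdim)
  let φ : Γ(M, overlap f) →ₗ[k] Coh.HH X M 1 :=
    { toFun := toH1 M hU
      map_add' := map_add _
      map_smul' := fun c n =>
        toH1_smulAb M hU (Coh.toGlobal (X ↘ Spec (CommRingCat.of k)) c) n }
  set S := LinearMap.range (resK k M (inf_le_left : overlap f ≤ regLocus f)) ⊔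
    LinearMap.range (resK k M (inf_le_right : overlap f ≤ regLocus f⁻¹))
  have hS : S ≤ LinearMap.ker φ := sup_le
    (by rintro _ ⟨m, rfl⟩; exact toH1_eq_zero_left M hU m)
    (by rintro _ ⟨m, rfl⟩; exact toH1_eq_zero_right M hU m)
  refine Module.Finite.of_surjective (S.liftQ φ hS) fun y => ?_
  obtain ⟨n, hn⟩ := toH1_surjective M hv hdim hf hU y
  exact ⟨Submodule.Quotient.mk n, hn⟩

/-- `H⁰` of a coherent sheaf is finite-dimensional. -/
theorem finite_HH_zero (hM : Coh.IsCoh M) : Module.Finite k (Coh.HH X M 0) := by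
  obtain ⟨f, hf⟩ := exists_isTransc k hdim
  haveI := hM.1
  haveI := finite_poly M hv hdim hM hf
  haveI := finite_poly M hv hdim hM hf.inv
  haveI := finiteDimensional_ker_sub (shiftEquiv M hf)
    (resK k M (inf_le_left : overlap f ≤ regLocus f))
    (resK k M (inf_le_right : overlap f ≤ regLocus f⁻¹))
    (resK_X_smul_left M hf) (resK_X_smul_right M hf)
    (exists_surj_left M hf hv hdim)
    (fun m hm => by
      obtain ⟨a, ha⟩ := exists_pow_smul_of_eq M (isAffineOpen_regLocus k hv hdim f hf)
        (regSection f) inf_le_left (overlap_eq_left hf) m hm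
      exact ⟨a, by rw [X_pow_smul]; exact ha⟩)
    (fun m hm => by
      obtain ⟨a, ha⟩ := exists_pow_smul_of_eq M (isAffineOpen_regLocus k hv hdim f⁻¹ hf.inv)
        (regSection f⁻¹) inf_le_right (overlap_eq_right hf) m hm
      exact ⟨a, by rw [X_pow_smul]; exact ha⟩)
  let e : Coh.HH X M 0 ≃+ Γ(M, ⊤) := Sheaf.H.equiv₀ (Coh.toAb M) isTerminalTop
  let φ : Coh.HH X M 0 →ₗ[k] LinearMap.ker
      ((resK k M (inf_le_left : overlap f ≤ regLocus f)).coprod
        (-resK k M (inf_le_right : overlap f ≤ regLocus f⁻¹))) :=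
    { toFun := fun y => ⟨(mres M le_top (e y), mres M le_top (e y)), by
        rw [LinearMap.mem_ker, LinearMap.coprod_apply, LinearMap.neg_apply, add_neg_eq_zero]
        simp only [resK_apply, mres, CohAff.res_res]⟩
      map_add' := fun y z => Subtype.ext (Prod.ext
        ((congrArg (mres M le_top) (map_add e y z)).trans (map_add _ _ _))
        ((congrArg (mres M le_top) (map_add e y z)).trans (map_add _ _ _)))
      map_smul' := fun c y => by
        have he : e (c • y) = rres X (le_refl ⊤) (Coh.toGlobal (X ↘ Spec (CommRingCat.of k)) c : Γ(X, ⊤)) • (e y : Γ(M, ⊤)) := by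
          exact (Sheaf.H.equiv₀_naturality (f := Coh.smulAb M (Coh.toGlobal (X ↘ Spec (CommRingCat.of k)) c))
            isTerminalTop y).symm
        refine Subtype.ext (Prod.ext ?_ ?_)
        · change mres M (le_top : regLocus f ≤ ⊤) (e (c • y)) =
            kMap k (regLocus f) c • mres M (le_top : regLocus f ≤ ⊤) (e y)
          rw [he, mres_smul, CohAff.rres_rres]
          rfl
        · change mres M (le_top : regLocus f⁻¹ ≤ ⊤) (e (c • y)) =
            kMap k (regLocus f⁻¹) c • mres M (le_top : regLocus f⁻¹ ≤ ⊤) (e y)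
          rw [he, mres_smul, CohAff.rres_rres]
          rfl }
  refine Module.Finite.of_injective φ fun y z h => e.injective ?_
  have h1 := congrArg (fun w => w.1.1) h
  have h2 := congrArg (fun w => w.1.2) h
  refine TopCat.Sheaf.eq_of_locally_eq' (Coh.toAb M) (twoCover (regLocus f) (regLocus f⁻¹)) ⊤ (fun _ => homOfLE le_top)
    (iSup_twoCover hv f).ge _ _ ?_
  rintro ⟨i⟩
  fin_cases i
  · exact h1
  · exact h2

variable (k) in
include k in
/-- Cohomology vanishes above degree one. -/
theorem subsingleton_HH [M.IsQuasicoherent] (n : ℕ) (hn : 2 ≤ n) : Subsingleton (Coh.HH X M n) := by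
  obtain ⟨f, hf⟩ := exists_isTransc k hdim
  refine Groth.Agent.S0010.result X 2 ![regLocus f, regLocus f⁻¹] ?_ ?_
    (fun V W hV hW => isAffineOpen_inf k hV hW) M n hn
  · intro i
    fin_cases i
    · exact isAffineOpen_regLocus k hv hdim f hf
    · exact isAffineOpen_regLocus k hv hdim f⁻¹ hf.inv
  · rw [eq_top_iff, ← regLocus_sup_inv hv f]
    exact sup_le (le_iSup ![regLocus f, regLocus f⁻¹] 0) (le_iSup ![regLocus f, regLocus f⁻¹] 1)

/-- The Euler characteristic is `h⁰ - h¹`. -/
theorem euler_eq [M.IsQuasicoherent] :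
    Curv2.euler k X M = (Module.finrank k (Coh.HH X M 0) : ℤ) - Module.finrank k (Coh.HH X M 1) := by
  rw [Curv2.euler, finsum_eq_sum_of_support_subset _ (s := {0, 1}) ?_]
  · simp [sub_eq_add_neg]
  · intro i hi
    rcases i with _ | _ | i
    · simp
    · simp
    · exfalso
      haveI := subsingleton_HH k M hv hdim (i + 2) (by omega)
      exact hi (by
        change (-1 : ℤ) ^ (i + 2) * _ = 0
        rw [Module.finrank_zero_of_subsingleton, Nat.cast_zero, mul_zero])

end Coherent

end Groth.Agent.CurveCoh
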